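import Mathlib

/-!
Rational cones: integer matrices acting on real vectors, decomposition of real nonnegative
solutions of integral linear equations, conic Caratheodory.
-/

set_option autoImplicit false

open Filter Topology

namespace Groth.Agent.Fan2

variable {d d' N : ℕ}

/-- Entrywise cast of an integer vector. -/
abbrev castVec (x : Fin d → ℤ) : Fin d → ℝ := fun i => (x i : ℝ)

/-- The real linear map of an integral linear map. -/
def colMap (A : (Fin d → ℤ) →ₗ[ℤ] (Fin N → ℤ)) : (Fin d → ℝ) →ₗ[ℝ] (Fin N → ℝ) where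
  toFun v j := ∑ i, (A (Pi.single i 1) j : ℝ) * v i
  map_add' v w := by
    funext j
    simp [mul_add, Finset.sum_add_distrib]
  map_smul' c v := by
    funext j
    simp [Finset.mul_sum, mul_left_comm]

lemma colMap_apply (A : (Fin d → ℤ) →ₗ[ℤ] (Fin N → ℤ)) (v : Fin d → ℝ) (j : Fin N) :
    colMap A v j = ∑ i, (A (Pi.single i 1) j : ℝ) * v i := rfl

lemma apply_eq_sum (A : (Fin d → ℤ) →ₗ[ℤ] (Fin N → ℤ)) (x : Fin d → ℤ) (j : Fin N) :
    A x j = ∑ i, A (Pi.single i 1) j * x i := by
  conv_lhs => rw [pi_eq_sum_univ x]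
  simp only [map_sum, Finset.sum_apply, map_smul, Pi.smul_apply, smul_eq_mul]
  refine Finset.sum_congr rfl fun i _ => ?_
  rw [mul_comm]
  congr 1
  refine congrFun (congrArg A ?_) j
  funext k
  rw [Pi.single_apply]
  by_cases h : k = i <;> simp [h, Ne.symm]

lemma colMap_castVec (A : (Fin d → ℤ) →ₗ[ℤ] (Fin N → ℤ)) (x : Fin d → ℤ) :
    colMap A (castVec x) = castVec (A x) := by
  funext j
  rw [colMap_apply]
  simp only [castVec]
  rw [apply_eq_sum A x j]
  push_cast
  rfl

lemma colMap_comp (B : (Fin d' → ℤ) →ₗ[ℤ] (Fin N → ℤ)) (A : (Fin d → ℤ) →ₗ[ℤ] (Fin d' → ℤ))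
    (v : Fin d → ℝ) : colMap (B.comp A) v = colMap B (colMap A v) := by
  funext j
  simp only [colMap_apply, LinearMap.comp_apply, Finset.mul_sum]
  rw [Finset.sum_comm]
  refine Finset.sum_congr rfl fun i _ => ?_
  rw [apply_eq_sum B (A (Pi.single i 1)) j]
  push_cast
  rw [Finset.sum_mul]
  exact Finset.sum_congr rfl fun k _ => by ring

lemma colMap_id (v : Fin d → ℝ) : colMap (LinearMap.id : (Fin d → ℤ) →ₗ[ℤ] _) v = v := by
  funext j
  simp [colMap_apply, Pi.single_apply]

lemma colMap_sub (A B : (Fin d → ℤ) →ₗ[ℤ] (Fin N → ℤ)) (v : Fin d → ℝ) :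
    colMap (A - B) v = colMap A v - colMap B v := by
  funext j
  simp [colMap_apply, sub_mul, Finset.sum_sub_distrib]

lemma colMap_nonneg (A : (Fin d → ℤ) →ₗ[ℤ] (Fin N → ℤ))
    (hA : ∀ x : Fin d → ℤ, (∀ i, 0 ≤ x i) → ∀ j, 0 ≤ A x j)
    (v : Fin d → ℝ) (hv : ∀ i, 0 ≤ v i) (j : Fin N) : 0 ≤ colMap A v j := by
  rw [colMap_apply]
  refine Finset.sum_nonneg fun i _ => mul_nonneg ?_ (hv i)
  exact_mod_cast hA _ (fun k => by rw [Pi.single_apply]; split_ifs <;> norm_num) j

/-- A real solution of an integral linear system is a real combination of integral solutions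
with no larger support. -/
lemma exists_int_decomp (A : (Fin d → ℤ) →ₗ[ℤ] (Fin N → ℤ)) (p : Fin d → ℝ)
    (hp : colMap A p = 0) :
    ∃ (m : ℕ) (r : Fin m → ℝ) (q : Fin m → Fin d → ℤ),
      (∀ j, A (q j) = 0) ∧ (∀ i, p i = ∑ j, r j * (q j i : ℝ)) ∧
      ∀ j i, p i = 0 → q j i = 0 := by
  classical
  let W : Submodule ℤ ℝ := Submodule.span ℤ (Set.range p)
  have : Module.Finite ℤ W := Module.Finite.span_of_finite ℤ (Set.finite_range p)
  let b := Module.finBasis ℤ W
  let pw : Fin d → W := fun i => ⟨p i, Submodule.subset_span ⟨i, rfl⟩⟩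
  refine ⟨_, fun j => (b j : ℝ), fun j i => b.repr (pw i) j, fun j => ?_, fun i => ?_, ?_⟩
  · funext k
    have hk : (∑ i, A (Pi.single i 1) k • pw i : W) = 0 := by
      apply Subtype.ext
      have := congrFun hp k
      rw [colMap_apply] at this
      simpa [pw, zsmul_eq_mul] using this
    have := congrArg (fun w => b.repr w j) hk
    simp only [map_sum, map_smul, Finsupp.coe_finsetSum, Finset.sum_apply, Finsupp.coe_smul,
      Pi.smul_apply, smul_eq_mul, map_zero, Finsupp.coe_zero, Pi.zero_apply] at this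
    rw [apply_eq_sum]
    simpa using this
  · have := congrArg (Subtype.val : W → ℝ) (b.sum_repr (pw i))
    simp only [Submodule.coe_sum, Submodule.coe_smul, zsmul_eq_mul] at this
    rw [show p i = (pw i : ℝ) from rfl, ← this]
    exact Finset.sum_congr rfl fun j _ => mul_comm _ _
  · intro j i hi
    have : pw i = 0 := Subtype.ext hi
    simp [this]

lemma colMap_injective (A : (Fin d → ℤ) →ₗ[ℤ] (Fin N → ℤ)) (hA : Function.Injective A) :
    Function.Injective (colMap A) := by
  rw [injective_iff_map_eq_zero]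
  intro p hp
  obtain ⟨m, r, q, hq, hpq, -⟩ := exists_int_decomp A p hp
  have h0 : ∀ j, q j = 0 := fun j => hA (by rw [hq j, map_zero])
  funext i
  rw [hpq i]
  simp [h0]

/-- A nonnegative real solution has a nonnegative integral solution of the same support. -/
lemma exists_int_pos (A : (Fin d → ℤ) →ₗ[ℤ] (Fin N → ℤ)) (p : Fin d → ℝ)
    (hp : colMap A p = 0) (hpos : ∀ i, 0 ≤ p i) :
    ∃ q : Fin d → ℤ, A q = 0 ∧ ∀ i, (p i = 0 → q i = 0) ∧ (p i ≠ 0 → 0 < q i) := by
  obtain ⟨m, r, q, hq, hpq, hsupp⟩ := exists_int_decomp A p hp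
  let Q : ℕ → Fin d → ℤ := fun n => ∑ j, ⌊(n : ℝ) * r j⌋ • q j
  have hev : ∀ i, ∀ᶠ n in atTop, p i ≠ 0 → 0 < Q n i := by
    intro i
    by_cases hi : p i = 0
    · exact Eventually.of_forall fun n h => absurd hi h
    have hip : 0 < p i := lt_of_le_of_ne (hpos i) (Ne.symm hi)
    filter_upwards [(tendsto_natCast_atTop_atTop (R := ℝ)).eventually_gt_atTop
      ((∑ j, |(q j i : ℝ)|) / p i)] with n hn _
    rw [div_lt_iff₀ hip] at hn
    suffices (0 : ℝ) < (Q n i : ℝ) by exact_mod_cast this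
    have e : (Q n i : ℝ) = ∑ j, (⌊(n : ℝ) * r j⌋ : ℝ) * (q j i : ℝ) := by
      simp [Q, Finset.sum_apply]
    have h1 : |(Q n i : ℝ) - n * p i| ≤ ∑ j, |(q j i : ℝ)| := by
      rw [e, hpq i, Finset.mul_sum, ← Finset.sum_sub_distrib]
      refine (Finset.abs_sum_le_sum_abs _ _).trans (Finset.sum_le_sum fun j _ => ?_)
      rw [← mul_assoc, ← sub_mul, abs_mul]
      refine mul_le_of_le_one_left (abs_nonneg _) (abs_le.2 ⟨?_, ?_⟩)
      · linarith [Int.sub_one_lt_floor ((n : ℝ) * r j)]
      · linarith [Int.floor_le ((n : ℝ) * r j)]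
    have := (abs_le.1 h1).1
    linarith
  obtain ⟨n, hn⟩ := (eventually_all.2 hev).exists
  refine ⟨Q n, ?_, fun i => ⟨fun hi => ?_, hn i⟩⟩
  · simp only [Q, map_sum, map_smul, hq, smul_zero, Finset.sum_const_zero]
  · simp [Q, Finset.sum_apply, hsupp _ i hi]

/-- A nonnegative real solution is a positive combination of linearly independent nonnegative
integral solutions. -/
lemma exists_cone_decomp (A : (Fin d → ℤ) →ₗ[ℤ] (Fin N → ℤ)) :
    ∀ (p : Fin d → ℝ), colMap A p = 0 → (∀ i, 0 ≤ p i) →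
    ∃ (m : ℕ) (c : Fin m → ℝ) (u : Fin m → Fin d → ℤ),
      (∀ j, 0 < c j) ∧ LinearIndependent ℤ u ∧ (∀ j, A (u j) = 0) ∧ (∀ j i, 0 ≤ u j i) ∧
      (∀ j i, p i = 0 → u j i = 0) ∧ p = ∑ j, c j • castVec (u j) := by
  classical
  suffices ∀ (k : ℕ) (p : Fin d → ℝ), (Finset.univ.filter fun i => p i ≠ 0).card ≤ k →
      colMap A p = 0 → (∀ i, 0 ≤ p i) →
      ∃ (m : ℕ) (c : Fin m → ℝ) (u : Fin m → Fin d → ℤ),
      (∀ j, 0 < c j) ∧ LinearIndependent ℤ u ∧ (∀ j, A (u j) = 0) ∧ (∀ j i, 0 ≤ u j i) ∧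
      (∀ j i, p i = 0 → u j i = 0) ∧ p = ∑ j, c j • castVec (u j) from
    fun p => this _ p le_rfl
  intro k
  induction k with
  | zero =>
    intro p hk _ _
    refine ⟨0, Fin.elim0, Fin.elim0, fun j => j.elim0, linearIndependent_empty_type,
      fun j => j.elim0, fun j => j.elim0, fun j => j.elim0, ?_⟩
    funext i
    by_contra h
    have : (Finset.univ.filter fun i => p i ≠ 0).Nonempty := ⟨i, by simpa using h⟩
    have := this.card_pos
    omega
  | succ k ih =>
    intro p hk hp hpos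
    by_cases hzero : (Finset.univ.filter fun i => p i ≠ 0).card ≤ k
    · exact ih p hzero hp hpos
    obtain ⟨q, hAq, hq⟩ := exists_int_pos A p hp hpos
    have hne : (Finset.univ.filter fun i => p i ≠ 0).Nonempty := Finset.card_pos.1 (by omega)
    obtain ⟨i₀, hi₀, hmin⟩ := Finset.exists_min_image _ (fun i => p i / (q i : ℝ)) hne
    simp only [Finset.mem_filter, Finset.mem_univ, true_and] at hi₀ hmin
    have hqi₀ : (0 : ℝ) < q i₀ := by exact_mod_cast (hq i₀).2 hi₀
    set t : ℝ := p i₀ / (q i₀ : ℝ) with ht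
    have htpos : 0 < t := div_pos (lt_of_le_of_ne (hpos i₀) (Ne.symm hi₀)) hqi₀
    set p' : Fin d → ℝ := p - t • castVec q with hp'
    have hp'0 : ∀ i, p i = 0 → p' i = 0 := fun i hi => by
      simp [hp', hi, (hq i).1 hi]
    have hp'pos : ∀ i, 0 ≤ p' i := fun i => by
      by_cases hi : p i = 0
      · rw [hp'0 i hi]
      have hqi : (0 : ℝ) < q i := by exact_mod_cast (hq i).2 hi
      have := hmin i hi
      rw [le_div_iff₀ hqi] at this
      simp only [hp', Pi.sub_apply, Pi.smul_apply, smul_eq_mul, castVec]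
      linarith
    have hp'i₀ : p' i₀ = 0 := by
      simp only [hp', Pi.sub_apply, Pi.smul_apply, smul_eq_mul, castVec, ht]
      rw [div_mul_cancel₀ _ hqi₀.ne', sub_self]
    have hcard : (Finset.univ.filter fun i => p' i ≠ 0).card ≤ k := by
      have hss : (Finset.univ.filter fun i => p' i ≠ 0) ⊂
          (Finset.univ.filter fun i => p i ≠ 0) := by
        refine ⟨fun i hi => ?_, fun h => ?_⟩
        · simp only [Finset.mem_filter, Finset.mem_univ, true_and] at hi ⊢
          exact fun h => hi (hp'0 i h)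
        · have := h (show i₀ ∈ _ from Finset.mem_filter.2 ⟨Finset.mem_univ _, hi₀⟩)
          simp [hp'i₀] at this
      have := Finset.card_lt_card hss
      omega
    have hAp' : colMap A p' = 0 := by
      rw [hp', map_sub, map_smul, colMap_castVec, hp, hAq]
      have h0 : (castVec (0 : Fin N → ℤ)) = 0 := funext fun _ => Int.cast_zero
      rw [h0, smul_zero, sub_zero]
    obtain ⟨m, c, u, hc, hu, hAu, hupos, husupp, hsum⟩ := ih p' hcard hAp' hp'pos
    refine ⟨m + 1, Fin.cons t c, Fin.cons q u, ?_, ?_, ?_, ?_, ?_, ?_⟩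
    · exact Fin.cases htpos hc
    · rw [Fintype.linearIndependent_iff]
      intro g hg
      rw [Fin.sum_univ_succ] at hg
      simp only [Fin.cons_zero, Fin.cons_succ] at hg
      have h0 : g 0 = 0 := by
        have := congrFun hg i₀
        simp [Finset.sum_apply, fun j => husupp j i₀ hp'i₀] at this
        rcases this with h | h
        · exact h
        · exact absurd h ((hq i₀).2 hi₀).ne'
      refine Fin.cases h0 ?_
      refine Fintype.linearIndependent_iff.1 hu (fun j => g j.succ) ?_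
      simpa [h0] using hg
    · exact Fin.cases hAq hAu
    · refine Fin.cases (fun i => ?_) hupos
      simp only [Fin.cons_zero]
      by_cases hi : p i = 0
      · rw [(hq i).1 hi]
      · exact ((hq i).2 hi).le
    · exact Fin.cases (fun i hi => (hq i).1 hi) (fun j i hi => husupp j i (hp'0 i hi))
    · rw [Fin.sum_univ_succ]
      simp only [Fin.cons_zero, Fin.cons_succ]
      rw [← hsum, hp']
      abel

/-- The integral linear map with given columns. -/
noncomputable def ofCols {m : ℕ} (u : Fin m → Fin N → ℤ) : (Fin m → ℤ) →ₗ[ℤ] (Fin N → ℤ) :=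
  Fintype.linearCombination ℤ u

lemma ofCols_apply {m : ℕ} (u : Fin m → Fin N → ℤ) (x : Fin m → ℤ) (j : Fin N) :
    ofCols u x j = ∑ i, x i * u i j := by
  simp [ofCols, Fintype.linearCombination_apply, Finset.sum_apply]

lemma ofCols_single {m : ℕ} (u : Fin m → Fin N → ℤ) (i : Fin m) :
    ofCols u (Pi.single i 1) = u i := by
  funext j
  simp [ofCols_apply, Pi.single_apply]

lemma colMap_ofCols {m : ℕ} (u : Fin m → Fin N → ℤ) (c : Fin m → ℝ) :
    colMap (ofCols u) c = ∑ i, c i • castVec (u i) := by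
  funext j
  simp [colMap_apply, ofCols_single, Finset.sum_apply, mul_comm]

lemma ofCols_injective {m : ℕ} (u : Fin m → Fin N → ℤ) (hu : LinearIndependent ℤ u) :
    Function.Injective (ofCols u) :=
  LinearIndependent.fintypeLinearCombination_injective hu

lemma ofCols_nonneg {m : ℕ} (u : Fin m → Fin N → ℤ) (hu : ∀ i j, 0 ≤ u i j) (x : Fin m → ℤ)
    (hx : ∀ i, 0 ≤ x i) (j : Fin N) : 0 ≤ ofCols u x j := by
  rw [ofCols_apply]
  exact Finset.sum_nonneg fun i _ => mul_nonneg (hx i) (hu i j)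

/-- Common refinement of two integral simplicial cones through a common point. -/
theorem exists_refinement {k l : ℕ} (A : (Fin k → ℤ) →ₗ[ℤ] (Fin N → ℤ))
    (B : (Fin l → ℤ) →ₗ[ℤ] (Fin N → ℤ)) (hA : Function.Injective A) (hB : Function.Injective B)
    (a : Fin k → ℝ) (b : Fin l → ℝ) (ha : ∀ i, 0 ≤ a i) (hb : ∀ i, 0 ≤ b i) (ha0 : a ≠ 0)
    (h : colMap A a = colMap B b) :
    ∃ (m : ℕ+) (α : (Fin m → ℤ) →ₗ[ℤ] (Fin k → ℤ)) (β : (Fin m → ℤ) →ₗ[ℤ] (Fin l → ℤ))
      (y : Fin m → ℝ), Function.Injective α ∧ Function.Injective β ∧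
      (∀ x, (∀ i, 0 ≤ x i) → ∀ j, 0 ≤ α x j) ∧ (∀ x, (∀ i, 0 ≤ x i) → ∀ j, 0 ≤ β x j) ∧
      A.comp α = B.comp β ∧ (∀ i, 0 < y i) ∧ colMap α y = a ∧ colMap β y = b := by
  classical
  let πA : (Fin (k + l) → ℤ) →ₗ[ℤ] (Fin k → ℤ) := LinearMap.funLeft ℤ ℤ (Fin.castAdd l)
  let πB : (Fin (k + l) → ℤ) →ₗ[ℤ] (Fin l → ℤ) := LinearMap.funLeft ℤ ℤ (Fin.natAdd k)
  let p : Fin (k + l) → ℝ := Fin.append a b
  have hπA : colMap πA p = a := by
    funext j
    simp [colMap_apply, πA, p, LinearMap.funLeft_apply, Pi.single_apply]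
  have hπB : colMap πB p = b := by
    funext j
    simp [colMap_apply, πB, p, LinearMap.funLeft_apply, Pi.single_apply]
  have hp : colMap (A.comp πA - B.comp πB) p = 0 := by
    rw [colMap_sub, colMap_comp, colMap_comp, hπA, hπB, h, sub_self]
  have hpos : ∀ i, 0 ≤ p i := fun i => by
    refine Fin.addCases (fun i => ?_) (fun i => ?_) i <;> simp [p, ha, hb]
  obtain ⟨m, c, u, hc, hu, hAu, hupos, -, hsum⟩ := exists_cone_decomp _ p hp hpos
  have hm : 0 < m := by
    rcases Nat.eq_zero_or_pos m with rfl | hm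
    · exfalso
      have hp0 : p = 0 := by simpa using hsum
      refine ha0 ?_
      rw [← hπA, hp0, map_zero]
    · exact hm
  have hAu' : ∀ i, A (πA (u i)) = B (πB (u i)) := fun i => by
    have := hAu i
    rwa [LinearMap.sub_apply, LinearMap.comp_apply, LinearMap.comp_apply, sub_eq_zero] at this
  have hAB : ∀ x : Fin m → ℤ, A (πA (ofCols u x)) = B (πB (ofCols u x)) := fun x => by
    rw [show ofCols u x = ∑ i, x i • u i from Fintype.linearCombination_apply ℤ u x]
    simp only [map_sum, map_smul, hAu']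
  have hzero : ∀ x : Fin m → ℤ, πA (ofCols u x) = 0 → πB (ofCols u x) = 0 → x = 0 := by
    intro x hxA hxB
    refine ofCols_injective u hu ?_
    rw [map_zero]
    funext i
    refine Fin.addCases (fun i => ?_) (fun i => ?_) i
    · exact congrFun hxA i
    · exact congrFun hxB i
  refine ⟨⟨m, hm⟩, πA.comp (ofCols u), πB.comp (ofCols u), c, ?_, ?_,
    fun x hx j => ofCols_nonneg u hupos x hx _, fun x hx j => ofCols_nonneg u hupos x hx _,
    ?_, hc, ?_, ?_⟩
  · rw [injective_iff_map_eq_zero]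
    intro x hx
    refine hzero x hx (hB ?_)
    rw [map_zero, ← hAB x]
    exact (congrArg A hx).trans (map_zero A)
  · rw [injective_iff_map_eq_zero]
    intro x hx
    refine hzero x (hA ?_) hx
    rw [map_zero, hAB x]
    exact (congrArg B hx).trans (map_zero B)
  · exact LinearMap.ext hAB
  · change colMap (πA.comp (ofCols u)) c = a
    rw [colMap_comp, colMap_ofCols, ← hsum, hπA]
  · change colMap (πB.comp (ofCols u)) c = b
    rw [colMap_comp, colMap_ofCols, ← hsum, hπB]

/-- Conic Caratheodory over the integers. -/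
theorem exists_indep_subset (s : Finset (Fin N → ℤ)) :
    ∀ c : (Fin N → ℤ) → ℝ, (∀ g, 0 ≤ c g) →
    ∃ t ⊆ s, LinearIndependent ℤ (fun g : t => (g : Fin N → ℤ)) ∧
      ∃ c' : (Fin N → ℤ) → ℝ, (∀ g, 0 ≤ c' g) ∧
        (∑ g ∈ s, c g • castVec g) = ∑ g ∈ t, c' g • castVec g := by
  classical
  induction s using Finset.strongInduction with
  | H s ih =>
    intro c hc
    by_cases hli : LinearIndependent ℤ (fun g : s => (g : Fin N → ℤ))
    · exact ⟨s, subset_rfl, hli, c, hc, rfl⟩
    obtain ⟨g₀, hrel, i₁, hi₁⟩ := Fintype.not_linearIndependent_iff.1 hli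
    obtain ⟨r, hrel', hrpos⟩ : ∃ r : (Fin N → ℤ) → ℤ,
        (∑ g ∈ s, r g • g) = 0 ∧ ∃ i ∈ s, 0 < r i := by
      let e : (Fin N → ℤ) → ℤ := fun g => if h : g ∈ s then g₀ ⟨g, h⟩ else 0
      have he : (∑ g ∈ s, e g • g) = 0 := by
        rw [← hrel, ← Finset.sum_coe_sort s]
        exact Finset.sum_congr rfl fun i _ => by simp [e]
      have he1 : e i₁.1 ≠ 0 := by simpa [e] using hi₁
      rcases lt_or_gt_of_ne he1 with h | h
      · exact ⟨fun g => - e g, by simp only [neg_smul, Finset.sum_neg_distrib, he, neg_zero],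
          i₁.1, i₁.2, by linarith⟩
      · exact ⟨e, he, i₁.1, i₁.2, h⟩
    obtain ⟨i, his, hri⟩ := hrpos
    have hne : (s.filter fun g => 0 < r g).Nonempty := ⟨i, by simp [his, hri]⟩
    obtain ⟨j, hj, hmin⟩ := Finset.exists_min_image _ (fun g => c g / (r g : ℝ)) hne
    simp only [Finset.mem_filter] at hj hmin
    have hrj : (0 : ℝ) < r j := by exact_mod_cast hj.2
    set t := c j / (r j : ℝ) with ht
    have ht0 : 0 ≤ t := div_nonneg (hc j) hrj.le
    let c' : (Fin N → ℤ) → ℝ := fun g => if g ∈ s then c g - t * r g else 0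
    have hc' : ∀ g, 0 ≤ c' g := fun g => by
      simp only [c']
      split_ifs with hg
      · by_cases hrg : 0 < r g
        · have := hmin g ⟨hg, hrg⟩
          rw [le_div_iff₀ (by exact_mod_cast hrg)] at this
          linarith
        · have : (r g : ℝ) ≤ 0 := by exact_mod_cast not_lt.1 hrg
          nlinarith [hc g, mul_nonneg ht0 (neg_nonneg.2 this)]
      · exact le_rfl
    have hc'j : c' j = 0 := by simp [c', hj.1, ht, div_mul_cancel₀ _ hrj.ne']
    have hrelR : (∑ g ∈ s, (r g : ℝ) • castVec g) = 0 := by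
      funext k
      have := congrFun hrel' k
      simp only [Finset.sum_apply, Pi.smul_apply, smul_eq_mul, Pi.zero_apply] at this ⊢
      exact_mod_cast congrArg (Int.cast : ℤ → ℝ) this
    have hsum : (∑ g ∈ s, c g • castVec g) = ∑ g ∈ s.erase j, c' g • castVec g := by
      rw [Finset.sum_erase _ (by simp [hc'j])]
      calc (∑ g ∈ s, c g • castVec g)
          = (∑ g ∈ s, c g • castVec g) - t • ∑ g ∈ s, (r g : ℝ) • castVec g := by
            rw [hrelR, smul_zero, sub_zero]
        _ = _ := by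
            rw [Finset.smul_sum, ← Finset.sum_sub_distrib]
            refine Finset.sum_congr rfl fun g hg => ?_
            simp only [c', hg, ↓reduceIte, sub_smul, smul_smul]
    obtain ⟨u, hu, hli', c'', hc'', he⟩ := ih (s.erase j) (Finset.erase_ssubset hj.1) c' hc'
    exact ⟨u, hu.trans (Finset.erase_subset _ _), hli', c'', hc'', hsum.trans he⟩

lemma isClosed_image_colMap (A : (Fin d → ℤ) →ₗ[ℤ] (Fin N → ℤ)) (hA : Function.Injective A)
    {C : Set (Fin d → ℝ)} (hC : IsClosed C) : IsClosed (colMap A '' C) :=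
  (LinearMap.isClosedEmbedding_of_injective
    (LinearMap.ker_eq_bot.2 (colMap_injective A hA))).isClosedMap _ hC

lemma tendsto_ceil_div (v : Fin d → ℝ) (hv : ∀ i, 0 ≤ v i) :
    Tendsto (fun n : ℕ => ((n : ℝ))⁻¹ • castVec (fun i => ((⌈v i * n⌉₊ : ℕ) : ℤ))) atTop (𝓝 v) := by
  rw [tendsto_pi_nhds]
  intro i
  have := (tendsto_nat_ceil_mul_div_atTop (hv i)).comp (tendsto_natCast_atTop_atTop (R := ℝ))
  refine this.congr fun n => ?_
  simp [castVec, div_eq_inv_mul]

end Groth.Agent.Fan2
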