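import Groth.Prelude.Def_W4c6instabfans3FanCvx
import Groth.Agent.Fan2.Cones

/-!
Formal fans: the equivalence relation of the projective realization, pullbacks, segments.
-/

set_option autoImplicit false

universe u

open CategoryTheory Opposite Filter Topology Instab

namespace Groth.Agent.Fan2

open Instab.Fan

variable {F G H : Fan.{u}} {k l n : ICone}

/-- The real map of a cone morphism as a linear map. -/
abbrev rmap (φ : k ⟶ n) : (Fin k.dim → ℝ) →ₗ[ℝ] (Fin n.dim → ℝ) := colMap φ.toLin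

lemma realMap_eq (φ : k ⟶ n) (v : Fin k.dim → ℝ) : φ.realMap v = rmap φ v := rfl

lemma rmap_injective (φ : k ⟶ n) : Function.Injective (rmap φ) :=
  colMap_injective _ φ.injective

lemma rmap_id (v : Fin n.dim → ℝ) : rmap (𝟙 n) v = v := colMap_id v

lemma rmap_comp (φ : k ⟶ l) (ψ : l ⟶ n) (v : Fin k.dim → ℝ) :
    rmap (φ ≫ ψ) v = rmap ψ (rmap φ v) := colMap_comp ψ.toLin φ.toLin v

/-- The image of a point of the orthant under a cone morphism. -/
def push (φ : k ⟶ n) (v : Orth k) : Orth n :=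
  ⟨rmap φ v.1, fun j => colMap_nonneg _ φ.nonneg _ v.2.1 j,
    fun h => v.2.2 (rmap_injective φ (h.trans (map_zero _).symm))⟩

lemma push_val (φ : k ⟶ n) (v : Orth k) : (push φ v).1 = rmap φ v.1 := rfl

lemma orth_ext {v w : Orth n} (h : v.1 = w.1) : v = w := Subtype.ext h

lemma orth_sum_pos (v : Orth n) : 0 < ∑ i, v.1 i := by
  rcases (Finset.sum_nonneg (fun i _ => v.2.1 i)).lt_or_eq with h | h
  · exact h
  · refine absurd (funext fun i => ?_) v.2.2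
    exact (Finset.sum_eq_zero_iff_of_nonneg (fun i _ => v.2.1 i)).1 h.symm i (Finset.mem_univ _)

/-- Positive rescaling. -/
def scale (c : ℝ) (hc : 0 < c) (v : Orth n) : Orth n :=
  ⟨c • v.1, fun i => mul_nonneg hc.le (v.2.1 i),
    fun h => v.2.2 ((smul_eq_zero.1 h).resolve_left hc.ne')⟩

/-- A proportionality between two points of the orthant has a positive factor. -/
lemma pos_of_smul_eq {v w : Orth n} {c : ℝ} (h : w.1 = c • v.1) : 0 < c := by
  have h1 : (∑ i, w.1 i) = c * ∑ i, v.1 i := by rw [h, Finset.mul_sum]; rfl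
  by_contra hc
  nlinarith [orth_sum_pos v, orth_sum_pos w, mul_nonpos_of_nonpos_of_nonneg (not_lt.1 hc)
    (orth_sum_pos v).le]

lemma map_id_apply (ξ : F.obj (op n)) : F.map (𝟙 n).op ξ = ξ := by
  rw [op_id, F.map_id]; rfl

lemma map_comp_apply (φ : k ⟶ l) (ψ : l ⟶ n) (ξ : F.obj (op n)) :
    F.map (φ ≫ ψ).op ξ = F.map φ.op (F.map ψ.op ξ) := by
  rw [op_comp, F.map_comp]; rfl

lemma app_map (f : F ⟶ G) (φ : k ⟶ n) (ξ : F.obj (op n)) :
    f.app (op k) (F.map φ.op ξ) = G.map φ.op (f.app (op n) ξ) :=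
  NatTrans.naturality_apply f φ.op ξ

lemma mk_glue (φ : k ⟶ n) (ξ : F.obj (op n)) (v : Orth k) (w : Orth n) (c : ℝ) (hc : 0 < c)
    (h : w.1 = c • rmap φ v.1) : P.mk (F.map φ.op ξ) v = P.mk ξ w :=
  Quot.sound (Rel.glue φ ξ v w c hc h)

lemma mk_push (φ : k ⟶ n) (ξ : F.obj (op n)) (v : Orth k) :
    P.mk (F.map φ.op ξ) v = P.mk ξ (push φ v) :=
  mk_glue φ ξ v _ 1 one_pos (by rw [one_smul, push_val])

lemma mk_smul (ξ : F.obj (op n)) (v w : Orth n) (c : ℝ) (h : w.1 = c • v.1) :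
    P.mk ξ v = P.mk ξ w := by
  have := mk_glue (𝟙 n) ξ v w c (pos_of_smul_eq h) (by rw [rmap_id]; exact h)
  rwa [map_id_apply] at this

lemma exists_mk (x : P F) : ∃ (n : ICone) (ξ : F.obj (op n)) (v : Orth n), P.mk ξ v = x := by
  induction x using Quot.ind with
  | mk p => exact ⟨p.1.1, p.1.2, p.2, rfl⟩

@[simp] lemma map_mk (f : F ⟶ G) (ξ : F.obj (op n)) (v : Orth n) :
    P.map f (P.mk ξ v) = P.mk (f.app (op n) ξ) v := rfl

/-- Two points admit a common sub-cone. -/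
def Common (p q : Pt F) : Prop :=
  ∃ (k : ICone) (φ₁ : k ⟶ p.1.1) (φ₂ : k ⟶ q.1.1) (y : Orth k) (c₁ c₂ : ℝ),
    F.map φ₁.op p.1.2 = F.map φ₂.op q.1.2 ∧ 0 < c₁ ∧ 0 < c₂ ∧
      p.2.1 = c₁ • rmap φ₁ y.1 ∧ q.2.1 = c₂ • rmap φ₂ y.1

/-- Refinement in the language of cone morphisms, into a lattice. -/
lemma exists_refinement_icone {N : ℕ} (A : (Fin k.dim → ℤ) →ₗ[ℤ] (Fin N → ℤ))
    (B : (Fin l.dim → ℤ) →ₗ[ℤ] (Fin N → ℤ)) (hA : Function.Injective A)
    (hB : Function.Injective B) (a : Orth k) (b : Orth l) (h : colMap A a.1 = colMap B b.1) :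
    ∃ (m : ICone) (α : m ⟶ k) (β : m ⟶ l) (y : Orth m),
      A.comp α.toLin = B.comp β.toLin ∧ rmap α y.1 = a.1 ∧ rmap β y.1 = b.1 := by
  obtain ⟨m, α, β, y, hα, hβ, hαn, hβn, hcomp, hy, hya, hyb⟩ :=
    exists_refinement A B hA hB a.1 b.1 a.2.1 b.2.1 a.2.2 h
  exact ⟨⟨m⟩, ⟨α, hα, hαn⟩, ⟨β, hβ, hβn⟩,
    ⟨y, fun i => (hy i).le, fun h0 => (hy ⟨0, m.pos⟩).ne' (congrFun h0 _)⟩, hcomp, hya, hyb⟩

lemma common_of_eqv {p q : Pt F} (h : Relation.EqvGen (Rel F) p q) : Common p q := by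
  induction h with
  | rel p q h =>
    obtain ⟨φ, ξ, v, w, c, hc, h⟩ := h
    exact ⟨_, 𝟙 _, φ, v, 1, c, map_id_apply _, one_pos, hc, by rw [one_smul, rmap_id], h⟩
  | refl p =>
    exact ⟨_, 𝟙 _, 𝟙 _, p.2, 1, 1, rfl, one_pos, one_pos, by rw [one_smul, rmap_id],
      by rw [one_smul, rmap_id]⟩
  | symm p q _ ih =>
    obtain ⟨k, φ₁, φ₂, y, c₁, c₂, e, h₁, h₂, e₁, e₂⟩ := ih
    exact ⟨k, φ₂, φ₁, y, c₂, c₁, e.symm, h₂, h₁, e₂, e₁⟩
  | trans p q r _ _ ih₁ ih₂ =>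
    obtain ⟨k, φ₁, φ₂, y, c₁, c₂, e, hc₁, hc₂, e₁, e₂⟩ := ih₁
    obtain ⟨l, ψ₂, ψ₃, z, d₂, d₃, e', hd₂, hd₃, e₂', e₃⟩ := ih₂
    obtain ⟨m, α, β, y', hcomp, hya, hyb⟩ := exists_refinement_icone φ₂.toLin ψ₂.toLin
      φ₂.injective ψ₂.injective (scale c₂ hc₂ y) (scale d₂ hd₂ z) (by
        change rmap φ₂ (c₂ • y.1) = rmap ψ₂ (d₂ • z.1)
        rw [map_smul, map_smul, ← e₂, ← e₂'])
    have hm : α ≫ φ₂ = β ≫ ψ₂ := ICone.Hom.ext hcomp
    refine ⟨m, α ≫ φ₁, β ≫ ψ₃, y', c₁ / c₂, d₃ / d₂, ?_, div_pos hc₁ hc₂, div_pos hd₃ hd₂, ?_, ?_⟩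
    · rw [map_comp_apply, e, ← map_comp_apply, hm, map_comp_apply, e', ← map_comp_apply]
    · rw [rmap_comp, hya]
      change _ = (c₁ / c₂) • rmap φ₁ (c₂ • y.1)
      rw [map_smul, smul_smul, div_mul_cancel₀ _ hc₂.ne', e₁]
    · rw [rmap_comp, hyb]
      change _ = (d₃ / d₂) • rmap ψ₃ (d₂ • z.1)
      rw [map_smul, smul_smul, div_mul_cancel₀ _ hd₂.ne', e₃]

theorem exists_common {n₁ n₂ : ICone} {σ₁ : F.obj (op n₁)} {σ₂ : F.obj (op n₂)}
    {v₁ : Orth n₁} {v₂ : Orth n₂} (h : P.mk σ₁ v₁ = P.mk σ₂ v₂) :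
    ∃ (k : ICone) (φ₁ : k ⟶ n₁) (φ₂ : k ⟶ n₂) (y : Orth k) (c₁ c₂ : ℝ),
      F.map φ₁.op σ₁ = F.map φ₂.op σ₂ ∧ 0 < c₁ ∧ 0 < c₂ ∧
        v₁.1 = c₁ • rmap φ₁ y.1 ∧ v₂.1 = c₂ • rmap φ₂ y.1 :=
  common_of_eqv (p := ⟨⟨n₁, σ₁⟩, v₁⟩) (q := ⟨⟨n₂, σ₂⟩, v₂⟩) (Quot.eqvGen_exact h)

/-! ### Topology -/

lemma continuous_mk (ξ : F.obj (op n)) : Continuous (P.mk ξ) :=
  continuous_quot_mk.comp
    (continuous_sigmaMk (σ := fun e : (Σ n : ICone, F.obj (op n)) => Orth e.1) (i := ⟨n, ξ⟩))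

lemma isOpen_iff {U : Set (P F)} :
    IsOpen U ↔ ∀ (n : ICone) (ξ : F.obj (op n)), IsOpen (P.mk ξ ⁻¹' U) := by
  refine ⟨fun h n ξ => h.preimage (continuous_mk ξ), fun h => ?_⟩
  refine (isQuotientMap_quot_mk (r := Rel F)).isOpen_preimage.1 ?_
  refine (isOpen_sigma_iff (σ := fun e : (Σ n : ICone, F.obj (op n)) => Orth e.1)).2 ?_
  rintro ⟨n, ξ⟩
  exact h n ξ

lemma isClosed_iff {U : Set (P F)} :
    IsClosed U ↔ ∀ (n : ICone) (ξ : F.obj (op n)), IsClosed (P.mk ξ ⁻¹' U) := by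
  simp only [← isOpen_compl_iff, isOpen_iff, Set.preimage_compl]

lemma continuous_map (f : F ⟶ G) : Continuous (P.map f) :=
  ⟨fun _U hU => isOpen_iff.2 fun n ξ => isOpen_iff.1 hU n (f.app (op n) ξ)⟩

/-! ### Pullbacks -/

lemma pb_exists (f : F ⟶ H) (g : G ⟶ H) (a : F.obj (op n)) (b : G.obj (op n))
    (h : f.app (op n) a = g.app (op n) b) :
    ∃ z : (Limits.pullback f g).obj (op n),
      (Limits.pullback.fst f g).app (op n) z = a ∧ (Limits.pullback.snd f g).app (op n) z = b :=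
  Limits.Types.exists_of_isPullback
    ((IsPullback.of_hasPullback f g).map ((evaluation _ _).obj (op n))) a b h

lemma pb_w (f : F ⟶ H) (g : G ⟶ H) (z : (Limits.pullback f g).obj (op n)) :
    f.app (op n) ((Limits.pullback.fst f g).app (op n) z)
      = g.app (op n) ((Limits.pullback.snd f g).app (op n) z) :=
  ConcreteCategory.congr_hom (NatTrans.congr_app (Limits.pullback.condition (f := f) (g := g))
    (op n)) z

theorem exists_pullback_lift (f : F ⟶ H) (g : G ⟶ H) (x : P F) (x' : P G)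
    (h : P.map f x = P.map g x') :
    ∃ y : P (Limits.pullback f g),
      P.map (Limits.pullback.fst f g) y = x ∧ P.map (Limits.pullback.snd f g) y = x' := by
  obtain ⟨n, ξ, v, rfl⟩ := exists_mk x
  obtain ⟨n', ξ', v', rfl⟩ := exists_mk x'
  obtain ⟨k, φ₁, φ₂, y, c₁, c₂, e, hc₁, hc₂, e₁, e₂⟩ := exists_common h
  rw [← app_map f φ₁, ← app_map g φ₂] at e
  obtain ⟨z, hz₁, hz₂⟩ := pb_exists f g _ _ e
  refine ⟨P.mk z y, ?_, ?_⟩
  · rw [map_mk, hz₁]
    exact mk_glue φ₁ ξ y v c₁ hc₁ e₁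
  · rw [map_mk, hz₂]
    exact mk_glue φ₂ ξ' y v' c₂ hc₂ e₂

/-! ### Representable fans -/

/-- A cone of `h_[n]`. -/
abbrev hcone (δ : k ⟶ n) : (uliftYoneda.{u}.obj n).obj (op k) := ULift.up δ

lemma coneMap_app (σ : F.obj (op n)) (y : (uliftYoneda.{u}.obj n).obj (op k)) :
    (coneMap σ).app (op k) y = F.map (ULift.down y).op σ := rfl

lemma hcone_map (δ : l ⟶ n) (φ : k ⟶ l) :
    (uliftYoneda.{u}.obj n).map φ.op (hcone δ) = hcone (φ ≫ δ) := rfl

lemma hcone_mk (δ : k ⟶ n) (z : Orth k) :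
    P.mk (hcone.{u} δ) z = P.mk (hcone.{u} (𝟙 n)) (push δ z) := by
  rw [← mk_push δ (hcone (𝟙 n)) z, hcone_map, Category.comp_id]

lemma hcone_eq {δ : k ⟶ n} {δ' : l ⟶ n} {z : Orth k} {z' : Orth l}
    (h : P.mk (hcone.{u} δ) z = P.mk (hcone.{u} δ') z') :
    ∃ c : ℝ, 0 < c ∧ rmap δ z.1 = c • rmap δ' z'.1 := by
  obtain ⟨m, φ₁, φ₂, y, c₁, c₂, e, hc₁, hc₂, e₁, e₂⟩ := exists_common h
  rw [hcone_map, hcone_map] at e
  have e' : φ₁ ≫ δ = φ₂ ≫ δ' := congrArg ULift.down e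
  refine ⟨c₁ / c₂, div_pos hc₁ hc₂, ?_⟩
  rw [e₁, e₂, map_smul, map_smul, ← rmap_comp, ← rmap_comp, e', smul_smul,
    div_mul_cancel₀ _ hc₂.ne']

lemma isBounded_hcone (n : ICone) : IsBounded (uliftYoneda.{u}.obj n) := by
  classical
  refine ⟨{⟨n, hcone (𝟙 n)⟩}, fun x => ⟨_, Finset.mem_singleton_self _, ?_⟩⟩
  obtain ⟨k, ⟨δ⟩, z, rfl⟩ := exists_mk x
  exact ⟨push δ z, (hcone_mk δ z).symm⟩

/-! ### Integer points and segments -/

/-- The morphism `[1] ⟶ [n]` through an integral point of the orthant. -/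
noncomputable def rayHom (x : Fin n.dim → ℤ) (hx : ∀ i, 0 ≤ x i) (hx0 : x ≠ 0) : Fan.one ⟶ n :=
  ⟨ofCols (fun _ => x), by
    rw [injective_iff_map_eq_zero]
    intro a ha
    obtain ⟨i, hi⟩ := Function.ne_iff.1 hx0
    have := congrFun ha i
    rw [ofCols_apply] at this
    funext j
    rw [Finset.sum_eq_single j (fun b _ hb => absurd (Fin.ext (by
      have hb1 : (b : ℕ) < 1 := b.isLt
      have hj1 : (j : ℕ) < 1 := j.isLt
      omega)) hb) (fun hh => absurd (Finset.mem_univ j) hh)] at this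
    rcases mul_eq_zero.1 this with h | h
    · exact h
    · exact absurd h hi, fun a ha j => ofCols_nonneg _ (fun _ => hx) a ha j⟩

lemma isRational_mk (ξ : F.obj (op n)) (w : Orth n) (x : Fin n.dim → ℤ) (c : ℝ)
    (h : w.1 = c • castVec x) : (P.mk ξ w).IsRational := by
  have hc : c ≠ 0 := by
    rintro rfl
    exact w.2.2 (by rw [h, zero_smul])
  rcases hc.lt_or_gt with hc | hc
  · have h' : w.1 = (-c) • castVec (-x) := by
      rw [h]
      funext i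
      simp [castVec]
    have hx : ∀ i, 0 ≤ (-x) i := fun i => by
      have := w.2.1 i
      rw [h'] at this
      have h2 := nonneg_of_mul_nonneg_right this (by linarith)
      simpa [castVec] using h2
    have hx0 : -x ≠ 0 := fun hz => w.2.2 (by
      rw [h', hz]
      funext i
      simp [castVec])
    refine ⟨F.map (rayHom (-x) hx hx0).op ξ, ?_⟩
    refine (mk_glue _ ξ _ w (-c) (by linarith) ?_).symm
    rw [h']
    congr 1
    change _ = colMap (ofCols fun _ => -x) _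
    rw [colMap_ofCols]
    funext i
    rw [Finset.sum_apply, Finset.sum_eq_single_of_mem (⟨0, one_pos⟩ : Fin (Fan.one.dim : ℕ))
      (Finset.mem_univ _) (fun b _ hb => absurd (Fin.ext (by
        have hb1 : (b : ℕ) < 1 := b.isLt
        simp only
        omega)) hb)]
    simp [Orth.ones]
  · have hx : ∀ i, 0 ≤ x i := fun i => by
      have := w.2.1 i
      rw [h] at this
      have h2 := nonneg_of_mul_nonneg_right this hc
      simpa [castVec] using h2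
    have hx0 : x ≠ 0 := fun hz => w.2.2 (by
      rw [h, hz]
      funext i
      simp [castVec])
    refine ⟨F.map (rayHom x hx hx0).op ξ, ?_⟩
    refine (mk_glue _ ξ _ w c hc ?_).symm
    rw [h]
    congr 1
    change _ = colMap (ofCols fun _ => x) _
    rw [colMap_ofCols]
    funext i
    rw [Finset.sum_apply, Finset.sum_eq_single_of_mem (⟨0, one_pos⟩ : Fin (Fan.one.dim : ℕ))
      (Finset.mem_univ _) (fun b _ hb => absurd (Fin.ext (by
        have hb1 : (b : ℕ) < 1 := b.isLt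
        simp only
        omega)) hb)]
    simp [Orth.ones]

/-- Integral rays are dense in the orthant. -/
lemma exists_int_mem_open {O : Set (Orth n)} (hO : IsOpen O) (hne : O.Nonempty) :
    ∃ w ∈ O, ∃ (x : Fin n.dim → ℤ) (c : ℝ), w.1 = c • castVec x := by
  obtain ⟨v, hv⟩ := hne
  obtain ⟨O', hO', rfl⟩ := isOpen_induced_iff.1 hO
  have h := tendsto_ceil_div v.1 v.2.1
  have e1 := h.eventually_mem (hO'.mem_nhds hv)
  have e2 := h.eventually_mem (isOpen_ne.mem_nhds v.2.2 : {u : Fin n.dim → ℝ | u ≠ 0} ∈ 𝓝 v.1)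
  obtain ⟨N, h1, h2⟩ := (e1.and e2).exists
  exact ⟨⟨_, fun i => mul_nonneg (by positivity) (by simp [castVec]), h2⟩, h1, _, _, rfl⟩

lemma exists_rational_mem_range (f : F ⟶ G) {O : Set (P G)} (hO : IsOpen O) {x : P F}
    (hx : P.map f x ∈ O) : ∃ x' : P F, x'.IsRational ∧ P.map f x' ∈ O := by
  obtain ⟨n, ξ, v, rfl⟩ := exists_mk x
  obtain ⟨w, hw, a, c, hc⟩ := exists_int_mem_open (O := P.mk (f.app (op n) ξ) ⁻¹' O)
    (hO.preimage (continuous_mk _)) ⟨v, hx⟩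
  exact ⟨P.mk ξ w, isRational_mk ξ w a c hc, hw⟩

lemma IsRational.map (f : F ⟶ G) {x : P F} (h : x.IsRational) : (P.map f x).IsRational := by
  obtain ⟨σ, rfl⟩ := h
  exact ⟨f.app _ σ, rfl⟩

lemma basis_apply (i j : Fin n.dim) : (Orth.basis n i).1 j = if j = i then (1 : ℝ) else 0 := by
  simp only [Orth.basis]

lemma two_ne : (0 : Fin (Fan.two.dim : ℕ)) ≠ 1 := fun h => by
  have h1 : ((0 : Fin 2) : ℕ) = ((1 : Fin 2) : ℕ) := congrArg Fin.val h
  simp at h1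

/-- A point of the standard segment. -/
def seg (t : Set.Icc (0 : ℝ) 1) : Orth Fan.two :=
  ⟨(1 - (t : ℝ)) • (Orth.basis Fan.two 0).1 + (t : ℝ) • (Orth.basis Fan.two 1).1, fun i =>
    add_nonneg (mul_nonneg (by linarith [t.2.2]) ((Orth.basis Fan.two 0).2.1 i))
      (mul_nonneg t.2.1 ((Orth.basis Fan.two 1).2.1 i)), fun h => by
    have h0 := congrFun h 0
    have h1 := congrFun h 1
    simp only [Pi.add_apply, Pi.smul_apply, basis_apply, if_true, if_neg two_ne,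
      if_neg two_ne.symm, smul_eq_mul, Pi.zero_apply, mul_one, mul_zero, add_zero, zero_add] at h0 h1
    linarith⟩

lemma continuous_seg : Continuous seg := by
  apply Continuous.subtype_mk
  fun_prop

lemma seg_zero : seg 0 = Orth.basis Fan.two 0 := orth_ext (by
  rw [show (seg _).1 = _ • (Orth.basis Fan.two 0).1 + _ • (Orth.basis Fan.two 1).1 from rfl]
  simp only [Set.Icc.coe_zero, Set.Icc.coe_one, sub_zero, sub_self]
  exact funext fun i => by simp only [Pi.add_apply, Pi.smul_apply, smul_eq_mul]; ring)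

lemma seg_one : seg 1 = Orth.basis Fan.two 1 := orth_ext (by
  rw [show (seg _).1 = _ • (Orth.basis Fan.two 0).1 + _ • (Orth.basis Fan.two 1).1 from rfl]
  simp only [Set.Icc.coe_zero, Set.Icc.coe_one, sub_zero, sub_self]
  exact funext fun i => by simp only [Pi.add_apply, Pi.smul_apply, smul_eq_mul]; ring)

lemma basis_not_prop : ¬ ∃ c : ℝ,
    (Orth.basis Fan.two 1).1 = c • (Orth.basis Fan.two 0).1 := by
  rintro ⟨c, h⟩
  have := congrFun h 1
  simp only [Pi.smul_apply, basis_apply, if_neg two_ne.symm, smul_eq_mul,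
    mul_zero] at this
  exact one_ne_zero this

lemma seg_between (t : Set.Icc (0 : ℝ) 1) (h0 : 0 < (t : ℝ)) (h1 : (t : ℝ) < 1) :
    ∃ a b : ℝ, 0 < a ∧ 0 < b ∧
      (seg t).1 = a • (Orth.basis Fan.two 0).1 + b • (Orth.basis Fan.two 1).1 :=
  ⟨1 - t, t, by linarith, h0, rfl⟩

end Groth.Agent.Fan2
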