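import Groth.Agent.Fan2.Basic

/-!
Bounded maps of formal fans and quasi-separated fans.
-/

set_option autoImplicit false

universe u

open CategoryTheory Opposite Filter Topology Instab

namespace Groth.Agent.Fan2

open Instab.Fan

variable {F G : Fan.{u}} {k l n n' : ICone}

/-- The cone over the image of a set of the orthant. -/
def conicImage (β : k ⟶ n) (T : Set (Orth k)) : Set (Orth n) :=
  {v | ∃ z ∈ T, ∃ c : ℝ, 0 < c ∧ v.1 = c • rmap β z.1}

/-- Invariance under positive rescaling. -/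
def IsConic (T : Set (Orth n)) : Prop :=
  ∀ v w : Orth n, v ∈ T → ∀ c : ℝ, 0 < c → w.1 = c • v.1 → w ∈ T

lemma isConic_preimage (ξ : F.obj (op n)) (A : Set (P F)) : IsConic (P.mk ξ ⁻¹' A) := by
  intro v w hv c _ h
  rw [Set.mem_preimage] at hv ⊢
  rwa [← mk_smul ξ v w c h]

lemma isClosed_conicImage (β : k ⟶ n) {T : Set (Orth k)} (hT : IsClosed T) (hc : IsConic T) :
    IsClosed (conicImage β T) := by
  let C : Set (Fin k.dim → ℝ) := closure (Subtype.val '' T)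
  have hC : ∀ z ∈ C, ∀ i, 0 ≤ z i := by
    intro z hz i
    refine closure_minimal (fun z' hz' => ?_)
      (isClosed_le continuous_const (continuous_apply i)) hz
    obtain ⟨v, _, rfl⟩ := hz'
    exact v.2.1 i
  have : conicImage β T = Subtype.val ⁻¹' (rmap β '' C) := by
    ext v
    constructor
    · rintro ⟨z, hz, c, hc', h⟩
      refine ⟨c • z.1, subset_closure ⟨scale c hc' z, hc z _ hz c hc' rfl, rfl⟩, ?_⟩
      rw [map_smul]
      exact h.symm
    · rintro ⟨z, hz, h⟩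
      have hz0 : z ≠ 0 := by
        rintro rfl
        exact v.2.2 (by rw [← h]; exact map_zero _)
      let zz : Orth k := ⟨z, hC z hz, hz0⟩
      have : zz ∈ T := by
        rw [← hT.closure_eq]
        exact closure_subtype.2 hz
      exact ⟨zz, this, 1, one_pos, by rw [one_smul]; exact h.symm⟩
  rw [this]
  exact (isClosed_image_colMap _ β.injective isClosed_closure).preimage continuous_subtype_val

lemma IsConic.univ : IsConic (Set.univ : Set (Orth n)) := fun _ _ _ _ _ _ => trivial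

/-- A piece of the preimage of a cone under a map of fans. -/
abbrev Piece (F : Fan.{u}) (n : ICone) : Type u := Σ k : ICone, F.obj (op k) × (k ⟶ n)

/-- The pieces `s` cover the base change of `ψ` along `σ`. -/
structure IsCover (ψ : F ⟶ G) (σ : G.obj (op n)) (s : Finset (Piece F n)) : Prop where
  compat : ∀ e ∈ s, ψ.app (op e.1) e.2.1 = G.map e.2.2.op σ
  cover : ∀ (k : ICone) (a : F.obj (op k)) (β : k ⟶ n) (y : Orth k),
    ψ.app (op k) a = G.map β.op σ →
      ∃ e ∈ s, ∃ z : Orth e.1, P.mk e.2.1 z = P.mk a y ∧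
        ∃ c : ℝ, 0 < c ∧ rmap β y.1 = c • rmap e.2.2 z.1

theorem exists_cover {ψ : F ⟶ G} (hψ : IsBoundedMap ψ) (σ : G.obj (op n)) :
    ∃ s, IsCover ψ σ s := by
  classical
  obtain ⟨s, hs⟩ := hψ n σ
  refine ⟨s.image fun e => ⟨e.1, (Limits.pullback.fst ψ (coneMap σ)).app _ e.2,
    ((Limits.pullback.snd ψ (coneMap σ)).app _ e.2).down⟩, ⟨?_, ?_⟩⟩
  · intro e he
    obtain ⟨e', _, rfl⟩ := Finset.mem_image.1 he
    exact (pb_w ψ (coneMap σ) e'.2).trans (coneMap_app σ _)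
  · intro k a β y h
    obtain ⟨z, hz₁, hz₂⟩ := pb_exists ψ (coneMap σ) a (hcone β) h
    obtain ⟨e, he, w, hw⟩ := hs (P.mk z y)
    refine ⟨_, Finset.mem_image.2 ⟨e, he, rfl⟩, w, ?_, ?_⟩
    · have := congrArg (P.map (Limits.pullback.fst ψ (coneMap σ))) hw
      rwa [map_mk, map_mk, hz₁] at this
    · have := congrArg (P.map (Limits.pullback.snd ψ (coneMap σ))) hw.symm
      rw [map_mk, map_mk, hz₂] at this
      exact hcone_eq (δ' := ((Limits.pullback.snd ψ (coneMap σ)).app _ e.2).down) this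

/-- The preimage in an orthant of the image of a set. -/
lemma IsCover.mem_image_iff {ψ : F ⟶ G} {σ : G.obj (op n)} {s : Finset (Piece F n)}
    (hs : IsCover ψ σ s) (A : Set (P F)) (v : Orth n) :
    P.mk σ v ∈ P.map ψ '' A ↔
      ∃ e ∈ s, v ∈ conicImage e.2.2 (P.mk e.2.1 ⁻¹' A) := by
  constructor
  · rintro ⟨x, hx, h⟩
    obtain ⟨k₀, a₀, y₀, rfl⟩ := exists_mk x
    rw [map_mk] at h
    obtain ⟨k, φ₁, φ₂, y, c₁, c₂, e, hc₁, hc₂, e₁, e₂⟩ := exists_common h
    rw [← app_map] at e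
    obtain ⟨p, hp, z, hz, c, hc, hcz⟩ := hs.cover k _ φ₂ y e
    refine ⟨p, hp, z, ?_, c₂ * c, mul_pos hc₂ hc, ?_⟩
    · rw [Set.mem_preimage, hz, mk_glue φ₁ a₀ y y₀ c₁ hc₁ e₁]
      exact hx
    · rw [e₂, hcz, smul_smul]
  · rintro ⟨p, hp, z, hz, c, hc, h⟩
    refine ⟨P.mk p.2.1 z, hz, ?_⟩
    rw [map_mk, hs.compat p hp]
    exact mk_glue p.2.2 σ z v c hc h

lemma IsCover.preimage_image {ψ : F ⟶ G} {σ : G.obj (op n)} {s : Finset (Piece F n)}
    (hs : IsCover ψ σ s) (A : Set (P F)) :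
    P.mk σ ⁻¹' (P.map ψ '' A) = ⋃ e ∈ s, conicImage e.2.2 (P.mk e.2.1 ⁻¹' A) := by
  ext v
  simpa using hs.mem_image_iff A v

theorem isClosedMap_of_isBoundedMap {ψ : F ⟶ G} (hψ : IsBoundedMap ψ) :
    IsClosedMap (P.map ψ) := by
  intro A hA
  rw [isClosed_iff]
  intro n σ
  obtain ⟨s, hs⟩ := exists_cover hψ σ
  rw [hs.preimage_image]
  exact isClosed_biUnion_finset fun e _ =>
    isClosed_conicImage _ (hA.preimage (continuous_mk _)) (isConic_preimage _ _)

theorem finite_fibre {ψ : F ⟶ G} (hψ : IsBoundedMap ψ) (y : P G) :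
    (P.map ψ ⁻¹' {y}).Finite := by
  obtain ⟨n, σ, v, rfl⟩ := exists_mk y
  obtain ⟨s, hs⟩ := exists_cover hψ σ
  let T : Piece F n → Set (P F) := fun e =>
    {x | ∃ z, P.mk e.2.1 z = x ∧ ∃ c : ℝ, 0 < c ∧ v.1 = c • rmap e.2.2 z.1}
  refine ((s.finite_toSet).biUnion fun e _ => (?_ : (T e).Finite)).subset ?_
  · refine Set.Subsingleton.finite ?_
    rintro _ ⟨z, rfl, c, hc, h⟩ _ ⟨z', rfl, c', hc', h'⟩
    refine mk_smul _ z z' (c'⁻¹ * c) (rmap_injective e.2.2 ?_)
    have hz' : rmap e.2.2 z'.1 = c'⁻¹ • v.1 := by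
      rw [h', smul_smul, inv_mul_cancel₀ hc'.ne', one_smul]
    rw [hz', h, map_smul, smul_smul]
  · intro x hx
    obtain ⟨e, he, z, hz, c, hc, h⟩ := (hs.mem_image_iff {x} v).1 ⟨x, rfl, hx⟩
    exact Set.mem_biUnion he ⟨z, hz, c, hc, h⟩

/-! ### Quasi-separated fans -/

theorem isBoundedMap_coneMap (hF : F.IsQuasiSeparated) (ξ : F.obj (op n)) :
    IsBoundedMap (coneMap ξ) := fun n' σ => hF n n' ξ σ

lemma coneMap_mk (ξ : F.obj (op n)) (δ : k ⟶ n) (z : Orth k) :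
    P.map (coneMap ξ) (P.mk (hcone δ) z) = P.mk ξ (push δ z) := by
  rw [map_mk, coneMap_app]
  exact mk_push δ ξ z

lemma coneMap_id_mk (ξ : F.obj (op n)) (v : Orth n) :
    P.map (coneMap ξ) (P.mk (hcone (𝟙 n)) v) = P.mk ξ v := by
  rw [map_mk, coneMap_app, map_id_apply]

/-- The pairs of points of two cones with the same image. -/
theorem exists_pairs (hF : F.IsQuasiSeparated) (ξ : F.obj (op n)) (ξ' : F.obj (op n')) :
    ∃ s : Finset (Σ k : ICone, (k ⟶ n) × (k ⟶ n')),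
      (∀ e ∈ s, F.map e.2.1.op ξ = F.map e.2.2.op ξ') ∧
      ∀ (v : Orth n) (w : Orth n'), P.mk ξ v = P.mk ξ' w ↔
        ∃ e ∈ s, ∃ (y : Orth e.1) (c c' : ℝ), 0 < c ∧ 0 < c' ∧
          v.1 = c • rmap e.2.1 y.1 ∧ w.1 = c' • rmap e.2.2 y.1 := by
  classical
  obtain ⟨s, hs⟩ := exists_cover (isBoundedMap_coneMap hF ξ) ξ'
  have hcompat : ∀ e ∈ s, F.map (ULift.down e.2.1).op ξ = F.map e.2.2.op ξ' := fun e he =>
    (coneMap_app ξ e.2.1).symm.trans (hs.compat e he)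
  refine ⟨s.image fun e => ⟨e.1, ULift.down e.2.1, e.2.2⟩, ?_, fun v w => ⟨fun h => ?_, ?_⟩⟩
  · intro e he
    obtain ⟨e', he', rfl⟩ := Finset.mem_image.1 he
    exact hcompat e' he'
  · obtain ⟨k, φ₁, φ₂, y, c₁, c₂, e, hc₁, hc₂, e₁, e₂⟩ := exists_common h
    obtain ⟨p, hp, z, hz, c, hc, hcz⟩ :=
      hs.cover k (hcone φ₁) φ₂ y ((coneMap_app ξ (hcone φ₁)).trans e)
    obtain ⟨d, hd, hdz⟩ := hcone_eq (δ' := ULift.down p.2.1) hz.symm
    exact ⟨_, Finset.mem_image.2 ⟨p, hp, rfl⟩, z, c₁ * d, c₂ * c, mul_pos hc₁ hd, mul_pos hc₂ hc,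
      by rw [e₁, hdz, smul_smul], by rw [e₂, hcz, smul_smul]⟩
  · rintro ⟨e, he, y, c, c', hc, hc', h₁, h₂⟩
    obtain ⟨e', he', rfl⟩ := Finset.mem_image.1 he
    rw [← mk_glue _ ξ y v c hc h₁, ← mk_glue _ ξ' y w c' hc' h₂, hcompat e' he']

/-- Images of closed conic sets under rational simplices are closed. -/
theorem isClosed_mk_image (hF : F.IsQuasiSeparated) (ξ : F.obj (op n)) {S : Set (Orth n)}
    (hS : IsClosed S) (hc : IsConic S) : IsClosed (P.mk ξ '' S) := by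
  have hA : IsClosed (P.mk (hcone.{u} (𝟙 n)) '' S) := by
    rw [isClosed_iff]
    rintro k ⟨δ⟩
    have : P.mk (hcone.{u} δ) ⁻¹' (P.mk (hcone.{u} (𝟙 n)) '' S) = push δ ⁻¹' S := by
      ext z
      rw [Set.mem_preimage, Set.mem_preimage, hcone_mk]
      refine ⟨?_, fun h => ⟨_, h, rfl⟩⟩
      rintro ⟨w, hw, h⟩
      obtain ⟨c, hc', hcw⟩ := hcone_eq h
      rw [rmap_id, rmap_id] at hcw
      refine hc w _ hw c⁻¹ (inv_pos.2 hc') ?_
      rw [hcw, smul_smul, inv_mul_cancel₀ hc'.ne', one_smul]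
    rw [this]
    refine hS.preimage (Continuous.subtype_mk ?_ _)
    exact (LinearMap.continuous_of_finiteDimensional (rmap δ)).comp continuous_subtype_val
  have := isClosedMap_of_isBoundedMap (isBoundedMap_coneMap hF ξ) _ hA
  rw [Set.image_image] at this
  simpa only [coneMap_id_mk] using this

theorem isClosed_singleton (hF : F.IsQuasiSeparated) (x : P F) : IsClosed ({x} : Set (P F)) := by
  obtain ⟨n, ξ, v, rfl⟩ := exists_mk x
  let S : Set (Orth n) := {w | (∑ i, v.1 i) • w.1 = (∑ i, w.1 i) • v.1}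
  have hv : Continuous (fun w : Orth n => w.1) := continuous_subtype_val
  have hS : IsClosed S := isClosed_eq (hv.const_smul (∑ i, v.1 i))
    ((continuous_finsetSum _ fun i _ =>
      (continuous_apply i).comp hv).smul continuous_const)
  have hc : IsConic S := by
    intro a b ha c _ hb
    simp only [S, Set.mem_ofPred_eq] at ha ⊢
    rw [hb]
    simp only [Pi.smul_apply, smul_eq_mul]
    rw [← Finset.mul_sum, smul_comm, ha, smul_smul]
  have he : P.mk ξ '' S = {P.mk ξ v} := by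
    refine Set.Subset.antisymm ?_ ?_
    · rintro _ ⟨w, hw, rfl⟩
      refine (mk_smul ξ v w ((∑ i, w.1 i) / ∑ i, v.1 i) ?_).symm
      rw [div_eq_inv_mul, ← smul_smul, ← hw, smul_smul, inv_mul_cancel₀ (orth_sum_pos v).ne',
        one_smul]
    · rintro _ rfl
      exact ⟨v, rfl, rfl⟩
  rw [← he]
  exact isClosed_mk_image hF ξ hS hc

end Groth.Agent.Fan2
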