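import Groth.Agent.Fan2.Bounded

/-!
Segments in convex subsets of the realization and extrema of quasi-concave functions.
-/

set_option autoImplicit false

universe u v

open CategoryTheory Opposite Filter Topology Instab

namespace Groth.Agent.Fan2

open Instab.Fan

variable {F : Fan.{u}} {U : Set (P F)}

lemma IsRealizable.exists_rational_mem (hU : IsRealizable U) {O : Set U} (hO : IsOpen O)
    (hne : O.Nonempty) : ∃ x ∈ O, (x : P F).IsRational := by
  obtain ⟨O', hO', rfl⟩ := isOpen_induced_iff.1 hO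
  obtain ⟨⟨x, hx⟩, hxO⟩ := hne
  obtain ⟨S, rfl⟩ := hU
  obtain ⟨a, rfl⟩ := hx
  obtain ⟨a', ha', haO⟩ := exists_rational_mem_range S.ι hO' hxO
  exact ⟨⟨_, a', rfl⟩, haO, IsRational.map S.ι ha'⟩

/-- The path along a segment lying in `U`. -/
def path {τ : F.obj (op Fan.two)} (hτ : P.cell τ ⊆ U) (t : Set.Icc (0 : ℝ) 1) : U :=
  ⟨P.mk τ (seg t), hτ ⟨_, rfl⟩⟩

lemma continuous_path {τ : F.obj (op Fan.two)} (hτ : P.cell τ ⊆ U) : Continuous (path hτ) :=
  ((continuous_mk τ).comp continuous_seg).subtype_mk _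

theorem exists_path (hU : IsConvex U) {x y : U} (hx : (x : P F).IsRational)
    (hy : (y : P F).IsRational) (hne : x ≠ y) :
    ∃ (τ : F.obj (op Fan.two)) (hτ : P.cell τ ⊆ U), path hτ 0 = x ∧ path hτ 1 = y := by
  obtain ⟨τ, hτ, h0, h1⟩ := hU.2.2 x y x.2 y.2 hx hy fun h => hne (Subtype.ext h)
  refine ⟨τ, hτ, Subtype.ext ?_, Subtype.ext ?_⟩
  · simp only [path, seg_zero, h0]
  · simp only [path, seg_one, h1]

variable {Γ : Type v} [LinearOrder Γ] {Φ : U → Γ}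

lemma qc_path (hΦ : IsQuasiConcaveOn U Φ) {τ : F.obj (op Fan.two)} (hτ : P.cell τ ⊆ U)
    (t : Set.Icc (0 : ℝ) 1) (h0 : 0 < (t : ℝ)) (h1 : (t : ℝ) < 1) :
    min (Φ (path hτ 0)) (Φ (path hτ 1)) ≤ Φ (path hτ t) ∧
      (Φ (path hτ t) = min (Φ (path hτ 0)) (Φ (path hτ 1)) →
        Φ (path hτ 0) = Φ (path hτ 1)) := by
  refine hΦ Fan.two τ (seg 0) (seg t) (seg 1) (hτ ⟨_, rfl⟩) (hτ ⟨_, rfl⟩) (hτ ⟨_, rfl⟩) ?_ ?_
  · rw [seg_zero, seg_one]; exact basis_not_prop
  · rw [seg_zero, seg_one]; exact seg_between t h0 h1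

lemma sqc_path (hΦ : IsStrictQuasiConcaveOn U Φ) {τ : F.obj (op Fan.two)} (hτ : P.cell τ ⊆ U)
    (t : Set.Icc (0 : ℝ) 1) (h0 : 0 < (t : ℝ)) (h1 : (t : ℝ) < 1) :
    min (Φ (path hτ 0)) (Φ (path hτ 1)) < Φ (path hτ t) := by
  refine hΦ Fan.two τ (seg 0) (seg t) (seg 1) (hτ ⟨_, rfl⟩) (hτ ⟨_, rfl⟩) (hτ ⟨_, rfl⟩) ?_ ?_
  · rw [seg_zero, seg_one]; exact basis_not_prop
  · rw [seg_zero, seg_one]; exact seg_between t h0 h1

theorem rational_localMax_le (hU : IsConvex U) (hΦ : IsQuasiConcaveOn U Φ)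
    (hlsc : ∀ c : Γ, IsClosed {x : U | Φ x ≤ c}) {x : U} (hx : (x : P F).IsRational)
    (hmax : IsLocalMax Φ x) (y : U) : Φ y ≤ Φ x := by
  by_contra hy
  obtain ⟨y', hy'O, hy'⟩ := IsRealizable.exists_rational_mem hU.2.1 (hlsc (Φ x)).isOpen_compl ⟨y, hy⟩
  have hlt : Φ x < Φ y' := not_le.1 hy'O
  obtain ⟨τ, hτ, h0, h1⟩ := exists_path hU hx hy' (fun h => by simp [h] at hlt)
  let t : ℕ → Set.Icc (0 : ℝ) 1 := fun n =>
    ⟨1 / ((n : ℝ) + 2), by positivity, by rw [div_le_one (by positivity)]; linarith [n.cast_nonneg (α := ℝ)]⟩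
  have ht : Tendsto t atTop (𝓝 0) := by
    rw [tendsto_subtype_rng]
    have h := (tendsto_one_div_add_atTop_nhds_zero_nat (𝕜 := ℝ)).comp (tendsto_add_atTop_nat 1)
    refine h.congr fun n => ?_
    simp only [Function.comp_apply, Nat.cast_add, Nat.cast_one, t]
    ring
  have htend : Tendsto (fun n => path hτ (t n)) atTop (𝓝 x) := by
    rw [← h0]; exact ((continuous_path hτ).tendsto 0).comp ht
  obtain ⟨n, hn⟩ := (htend.eventually hmax).exists
  obtain ⟨hge, heq⟩ := qc_path hΦ hτ (t n) (by simp only [t]; positivity) (by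
    simp only [t]; rw [div_lt_one (by positivity)]; linarith [n.cast_nonneg (α := ℝ)])
  rw [h0, h1, min_eq_left hlt.le] at hge heq
  exact hlt.ne (heq (le_antisymm hn hge))

theorem rational_localMax_unique (hU : IsConvex U) (hΦ : IsQuasiConcaveOn U Φ)
    (hlsc : ∀ c : Γ, IsClosed {x : U | Φ x ≤ c}) (hs : IsStrictQuasiConcaveOn U Φ) {x y : U}
    (hx : (x : P F).IsRational) (hy : (y : P F).IsRational) (hmx : IsLocalMax Φ x)
    (hmy : IsLocalMax Φ y) : x = y := by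
  by_contra hne
  obtain ⟨τ, hτ, h0, h1⟩ := exists_path hU hx hy hne
  have hh : (0 : ℝ) < ((⟨1 / 2, by norm_num, by norm_num⟩ : Set.Icc (0 : ℝ) 1) : ℝ) := by norm_num
  have := sqc_path hs hτ _ hh (by norm_num)
  rw [h0, h1, le_antisymm (rational_localMax_le hU hΦ hlsc hy hmy x)
    (rational_localMax_le hU hΦ hlsc hx hmx y), min_self] at this
  exact absurd (rational_localMax_le hU hΦ hlsc hy hmy _) (not_le.2 this)

variable [TopologicalSpace Γ] [OrderTopology Γ]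

/-- For strictly quasi-concave functions on a compact set, the points at a given local
maximum level near it reduce to the point itself. -/
theorem eventually_lt_of_isLocalMax [T2Space (P F)] (hUc : IsCompact U) (hU : IsLocallyConvex U)
    (hΦc : Continuous Φ) (hΦ : IsStrictQuasiConcaveOn U Φ) {x : U} (hx : IsLocalMax Φ x) :
    ∀ᶠ u in 𝓝 x, u ≠ x → Φ u < Φ x := by
  have : CompactSpace U := isCompact_iff_compactSpace.1 hUc
  obtain ⟨W, hWx, hWo, hxW⟩ := mem_nhds_iff.1 hx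
  obtain ⟨O, hO, hOW⟩ := isOpen_induced_iff.1 hWo
  obtain ⟨L, hLn, hLc, hLW⟩ := exists_mem_nhds_isClosed_subset (hWo.mem_nhds hxW)
  let E : Set (P F) := Subtype.val '' (L ∩ {u | Φ u = Φ x})
  have hEc : IsClosed E :=
    ((hLc.inter (isClosed_eq hΦc continuous_const)).isCompact.image continuous_subtype_val).isClosed
  have hD : IsClosed (E \ {(x : P F)}) := by
    rw [isClosed_iff]
    intro n ξ
    rw [← isOpen_compl_iff, isOpen_iff_mem_nhds]
    intro v hv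
    by_cases hvE : P.mk ξ v ∈ E
    swap
    · refine mem_of_superset ((hEc.preimage (continuous_mk ξ)).isOpen_compl.mem_nhds hvE) ?_
      exact fun w hw h => hw h.1
    have hvx : P.mk ξ v = x := by
      by_contra h
      exact hv ⟨hvE, h⟩
    have hvO : v ∈ P.mk ξ ⁻¹' O := by
      rw [Set.mem_preimage, hvx]
      exact (Set.ext_iff.1 hOW x).2 hxW
    obtain ⟨O₁, hO₁, hO₁e⟩ := isOpen_induced_iff.1 (hO.preimage (continuous_mk ξ))
    have hvO₁ : v.1 ∈ O₁ := (Set.ext_iff.1 hO₁e v).2 hvO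
    obtain ⟨ε, hε, hball⟩ := Metric.isOpen_iff.1 hO₁ _ hvO₁
    refine mem_of_superset ((isOpen_induced_iff.2
      ⟨_, Metric.isOpen_ball, rfl⟩ : IsOpen (Subtype.val ⁻¹' Metric.ball v.1 ε :
        Set (Orth n))).mem_nhds (Metric.mem_ball_self hε)) ?_
    intro w hw ⟨hwE, hwx⟩
    have hvU : P.mk ξ v ∈ U := by rw [hvx]; exact x.2
    obtain ⟨u, ⟨_, hu⟩, huw⟩ := hwE
    have hwU : P.mk ξ w ∈ U := by rw [← huw]; exact u.2
    by_cases hprop : ∃ c : ℝ, w.1 = c • v.1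
    · obtain ⟨c, hc⟩ := hprop
      exact hwx (by rw [Set.mem_singleton_iff, ← mk_smul ξ v w c hc, hvx])
    have hmid_mem : (1 / 2 : ℝ) • v.1 + (1 / 2 : ℝ) • w.1 ∈ Metric.ball v.1 ε :=
      convex_ball v.1 ε (Metric.mem_ball_self hε) hw (by norm_num) (by norm_num) (by norm_num)
    let mid : Orth n := ⟨(1 / 2 : ℝ) • v.1 + (1 / 2 : ℝ) • w.1,
      fun i => add_nonneg (mul_nonneg (by norm_num) (v.2.1 i)) (mul_nonneg (by norm_num) (w.2.1 i)),
      fun h => v.2.2 (funext fun i => by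
        have := congrFun h i
        simp only [Pi.add_apply, Pi.smul_apply, smul_eq_mul, Pi.zero_apply] at this ⊢
        linarith [v.2.1 i, w.2.1 i])⟩
    have hab : ∃ a b : ℝ, 0 < a ∧ 0 < b ∧ mid.1 = a • v.1 + b • w.1 :=
      ⟨1 / 2, 1 / 2, by norm_num, by norm_num, rfl⟩
    have hmU : P.mk ξ mid ∈ U := hU n ξ v mid w hvU hwU hab
    have hlt := hΦ n ξ v mid w hvU hmU hwU hprop hab
    have hW : (⟨_, hmU⟩ : U) ∈ W :=
      (Set.ext_iff.1 hOW ⟨_, hmU⟩).1 ((Set.ext_iff.1 hO₁e mid).1 (hball hmid_mem))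
    have hle : Φ ⟨_, hmU⟩ ≤ Φ x := hWx hW
    have ev : Φ ⟨_, hvU⟩ = Φ x := congrArg Φ (Subtype.ext hvx)
    have ew : Φ ⟨_, hwU⟩ = Φ x := (congrArg Φ (Subtype.ext huw.symm)).trans hu
    rw [ev, ew, min_self] at hlt
    exact absurd hle (not_le.2 hlt)
  have hxD : (x : P F) ∉ E \ {(x : P F)} := fun h => h.2 rfl
  filter_upwards [hLn, continuous_subtype_val.continuousAt.preimage_mem_nhds
    (hD.isOpen_compl.mem_nhds hxD)] with u huL huD hne
  refine lt_of_le_of_ne (hWx (hLW huL)) fun he => huD ⟨⟨u, ⟨huL, he⟩, rfl⟩, ?_⟩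
  exact fun h => hne (Subtype.ext h)

theorem localMax_unique [T2Space (P F)] (hUc : IsCompact U) (hU : IsConvex U)
    (hΦc : Continuous Φ) (hΦ : IsStrictQuasiConcaveOn U Φ) {x y : U} (hx : IsLocalMax Φ x)
    (hxy : Φ x ≤ Φ y) : x = y := by
  by_contra hne
  have : CompactSpace U := isCompact_iff_compactSpace.1 hUc
  have hev := eventually_lt_of_isLocalMax hUc hU.1 hΦc hΦ hx
  obtain ⟨K, hKn, hKc, hKW⟩ := exists_mem_nhds_isClosed_subset
    (inter_mem hev (isOpen_ne.mem_nhds hne))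
  have hyK : y ∉ K := fun h => (hKW h).2 rfl
  let B : Set U := K \ interior K
  have hB : IsCompact B := (hKc.sdiff isOpen_interior).isCompact
  have hBlt : ∀ b ∈ B, Φ b < Φ x := by
    intro b hb
    refine (hKW hb.1).1 fun h => hb.2 ?_
    rw [h]
    exact mem_interior_iff_mem_nhds.2 hKn
  obtain ⟨Q, hQ, hxQ, hyQ, hBQ⟩ : ∃ Q : Set U, IsOpen Q ∧ x ∈ Q ∧ y ∈ Q ∧
      ∀ q ∈ Q, ∀ b ∈ B, Φ b < Φ q := by
    rcases B.eq_empty_or_nonempty with hE | hne'
    · exact ⟨Set.univ, isOpen_univ, trivial, trivial, by simp [hE]⟩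
    obtain ⟨b₀, hb₀, hmax⟩ := hB.exists_isMaxOn hne' hΦc.continuousOn
    exact ⟨Φ ⁻¹' Set.Ioi (Φ b₀), isOpen_Ioi.preimage hΦc, hBlt b₀ hb₀,
      lt_of_lt_of_le (hBlt b₀ hb₀) hxy, fun q hq b hb => lt_of_le_of_lt (hmax hb) hq⟩
  obtain ⟨x', ⟨hx'K, hx'Q⟩, hx'⟩ := IsRealizable.exists_rational_mem hU.2.1
    (isOpen_interior.inter hQ) ⟨x, mem_interior_iff_mem_nhds.2 hKn, hxQ⟩
  obtain ⟨y', ⟨hy'K, hy'Q⟩, hy'⟩ := IsRealizable.exists_rational_mem hU.2.1
    (hKc.isOpen_compl.inter hQ) ⟨y, hyK, hyQ⟩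
  obtain ⟨τ, hτ, h0, h1⟩ := exists_path hU hx' hy'
    (fun h => hy'K (h ▸ interior_subset hx'K))
  have hcov : ∃ t, path hτ t ∈ B := by
    by_contra! hno
    have hsub : Set.univ ⊆ path hτ ⁻¹' interior K ∪ path hτ ⁻¹' Kᶜ := fun t _ => by
      by_cases h : path hτ t ∈ interior K
      · exact Or.inl h
      · exact Or.inr fun hK => hno t ⟨hK, h⟩
    obtain ⟨t, -, ht1, ht2⟩ := isPreconnected_univ _ _ (isOpen_interior.preimage (continuous_path hτ))
      (hKc.isOpen_compl.preimage (continuous_path hτ)) hsub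
      ⟨0, trivial, by rw [Set.mem_preimage, h0]; exact hx'K⟩
      ⟨1, trivial, by rw [Set.mem_preimage, h1]; exact hy'K⟩
    exact ht2 (interior_subset ht1)
  obtain ⟨t, htB⟩ := hcov
  have ht0 : 0 < (t : ℝ) := by
    refine lt_of_le_of_ne t.2.1 fun h => htB.2 ?_
    rw [show t = 0 from Subtype.ext h.symm, h0]; exact hx'K
  have ht1 : (t : ℝ) < 1 := by
    refine lt_of_le_of_ne t.2.2 fun h => hy'K ?_
    rw [← h1, ← show t = 1 from Subtype.ext h]; exact htB.1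
  have := sqc_path hΦ hτ t ht0 ht1
  rw [h0, h1] at this
  exact (lt_min (hBQ x' hx'Q _ htB) (hBQ y' hy'Q _ htB)).asymm this

/-! ### Sequences -/

theorem exists_subseq_lift (hF : F.IsQuasiSeparated) (x : ℕ → P F) (x₀ : P F)
    (hx : Tendsto x atTop (𝓝 x₀)) :
    ∃ (n : ICone) (σ : F.obj (op n)) (r : ℕ → ℕ) (v : ℕ → Orth n) (v₀ : Orth n),
      StrictMono r ∧ (∀ j, P.mk σ (v j) = x (r j)) ∧ P.mk σ v₀ = x₀ ∧
        Tendsto v atTop (𝓝 v₀) := by
  obtain ⟨n, ξ, hinf⟩ : ∃ (n : ICone) (ξ : F.obj (op n)), {i | x i ∈ P.cell ξ}.Infinite := by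
    by_contra hfin
    simp only [not_exists, Set.not_infinite] at hfin
    have hS : IsClosed (Set.range x \ {x₀}) := by
      rw [isClosed_iff]
      intro n ξ
      have hfinite : ((Set.range x \ {x₀}) ∩ P.cell ξ).Finite :=
        ((hfin n ξ).image x).subset fun z hz => by
          obtain ⟨⟨⟨i, rfl⟩, -⟩, hi⟩ := hz
          exact ⟨i, hi, rfl⟩
      have hc : IsClosed ((Set.range x \ {x₀}) ∩ P.cell ξ) := by
        rw [← Set.biUnion_of_singleton ((Set.range x \ {x₀}) ∩ P.cell ξ)]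
        exact hfinite.isClosed_biUnion fun z _ => isClosed_singleton hF z
      have := hc.preimage (continuous_mk ξ)
      rwa [Set.preimage_inter, P.cell, Set.preimage_range, Set.inter_univ] at this
    obtain ⟨N, hN⟩ := eventually_atTop.1
      (hx.eventually_mem (hS.isOpen_compl.mem_nhds fun h => h.2 rfl))
    obtain ⟨n₀, ξ₀, v₀, rfl⟩ := exists_mk x₀
    refine (Set.Ici_infinite N).mono (fun i hi => ?_) (hfin n₀ ξ₀)
    have : x i = P.mk ξ₀ v₀ := by
      by_contra h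
      exact hN i hi ⟨⟨i, rfl⟩, h⟩
    exact ⟨v₀, this.symm⟩
  obtain ⟨r₀, hr₀, hr₀m⟩ := extraction_of_frequently_atTop (Nat.frequently_atTop_iff_infinite.2 hinf)
  choose u hu using hr₀m
  have hnorm : ∀ w : Orth n, (∑ i, w.1 i)⁻¹ • w.1 ∈ stdSimplex ℝ (Fin n.dim) := fun w =>
    ⟨fun i => mul_nonneg (inv_nonneg.2 (orth_sum_pos w).le) (w.2.1 i), by
      simp only [Pi.smul_apply, smul_eq_mul, ← Finset.mul_sum]
      exact inv_mul_cancel₀ (orth_sum_pos w).ne'⟩
  obtain ⟨p, hp, φ, hφ, hlim⟩ := (isCompact_stdSimplex ℝ (Fin n.dim)).tendsto_subseq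
    (fun j => hnorm (u j))
  have hp0 : p ≠ 0 := fun h => by simpa [h] using hp.2
  let v₁ : Orth n := ⟨p, hp.1, hp0⟩
  let v : ℕ → Orth n := fun j => scale _ (inv_pos.2 (orth_sum_pos (u (φ j)))) (u (φ j))
  have hv : ∀ j, P.mk ξ (v j) = x (r₀ (φ j)) := fun j => by
    rw [← hu (φ j)]
    exact (mk_smul ξ (u (φ j)) (v j) _ rfl).symm
  have hvlim : Tendsto v atTop (𝓝 v₁) := tendsto_subtype_rng.2 hlim
  refine ⟨n, ξ, r₀ ∘ φ, v, v₁, hr₀.comp hφ, hv, ?_, hvlim⟩
  by_contra hne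
  have hfreq : ∃ᶠ j in atTop, P.mk ξ (v j) = x₀ := by
    rw [frequently_atTop]
    intro J
    let C : Set (Fin n.dim → ℝ) := insert p (Set.range fun j => (v (j + J)).1)
    have hC : IsClosed C :=
      (((tendsto_subtype_rng.1 hvlim).comp (tendsto_add_atTop_nat J)).isCompact_insert_range).isClosed
    have hw : Continuous (fun w : Orth n => w.1) := continuous_subtype_val
    let S : Set (Orth n) := (fun w : Orth n => (∑ i, w.1 i)⁻¹ • w.1) ⁻¹' C
    have hS : IsClosed S :=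
      hC.preimage (((continuous_finsetSum _ fun i _ => (continuous_apply i).comp hw).inv₀
        fun w => (orth_sum_pos w).ne').smul hw)
    have hSc : IsConic S := by
      intro a b ha c hc hb
      simp only [S, Set.mem_preimage] at ha ⊢
      rw [hb]
      simp only [Pi.smul_apply, smul_eq_mul, ← Finset.mul_sum, mul_inv, smul_smul]
      rwa [mul_comm c⁻¹, mul_assoc, inv_mul_cancel₀ hc.ne', mul_one]
    have hmem : x₀ ∈ P.mk ξ '' S := by
      refine (isClosed_mk_image hF ξ hS hSc).mem_of_tendsto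
        (hx.comp (hr₀.comp hφ).tendsto_atTop) ?_
      filter_upwards [eventually_ge_atTop J] with j hj
      refine ⟨v j, ?_, hv j⟩
      have h1 : (∑ i, (v j).1 i) = 1 := (hnorm (u (φ j))).2
      simp only [S, Set.mem_preimage, h1, inv_one, one_smul]
      exact Or.inr ⟨j - J, by simp [Nat.sub_add_cancel hj]⟩
    obtain ⟨w, hwS, rfl⟩ := hmem
    rcases hwS with h | ⟨j, h⟩
    · exact absurd (mk_smul ξ w v₁ _ h.symm).symm hne
    · exact ⟨j + J, Nat.le_add_left J j, (mk_smul ξ w (v (j + J)) _ h).symm⟩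
  exact hne (((isClosed_singleton hF x₀).preimage (continuous_mk ξ)).mem_of_frequently_of_tendsto
    hfreq hvlim)

end Groth.Agent.Fan2
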