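import Groth.Agent.Fan2.Basic

/-!
The realization of the fan of a family of rational polyhedral cones.
-/

set_option autoImplicit false

open CategoryTheory Opposite Filter Topology Instab

namespace Groth.Agent.Fan2

open Instab.Fan

variable {N : ℕ} {ι : Type} {K : ι → Set (Fin N → ℝ)}

/-- The real cone spanned by finitely many integral vectors. -/
def coneOf (g : Finset (Fin N → ℤ)) : Set (Fin N → ℝ) :=
  {x | ∃ c : (Fin N → ℤ) → ℝ, (∀ v, 0 ≤ c v) ∧ x = Finset.sum g fun v => c v • fun j => (v j : ℝ)}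

lemma smul_mem_coneOf {g : Finset (Fin N → ℤ)} {x : Fin N → ℝ} (hx : x ∈ coneOf g) {c : ℝ}
    (hc : 0 ≤ c) : c • x ∈ coneOf g := by
  obtain ⟨a, ha, rfl⟩ := hx
  refine ⟨fun v => c * a v, fun v => mul_nonneg hc (ha v), ?_⟩
  rw [Finset.smul_sum]
  simp only [smul_smul]

/-- An enumeration of a finite set of vectors as a family. -/
noncomputable def enum (t : Finset (Fin N → ℤ)) (i : Fin t.card) : Fin N → ℤ := t.equivFin.symm i

lemma enum_mem (t : Finset (Fin N → ℤ)) (i : Fin t.card) : enum t i ∈ t :=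
  (t.equivFin.symm i).2

lemma enum_indep {t : Finset (Fin N → ℤ)} (ht : LinearIndependent ℤ (fun g : t => (g : Fin N → ℤ))) :
    LinearIndependent ℤ (enum t) :=
  ht.comp _ t.equivFin.symm.injective

lemma sum_enum (t : Finset (Fin N → ℤ)) (c : (Fin N → ℤ) → ℝ) :
    ∑ g ∈ t, c g • castVec g = colMap (ofCols (enum t)) (fun i => c (enum t i)) := by
  rw [colMap_ofCols, ← Finset.sum_coe_sort t]
  exact (Fintype.sum_equiv t.equivFin.symm _ _ (fun i => rfl)).symm

lemma colMap_enum_mem {g t : Finset (Fin N → ℤ)} (h : t ⊆ g) {c : Fin t.card → ℝ}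
    (hc : ∀ i, 0 ≤ c i) : colMap (ofCols (enum t)) c ∈ coneOf g := by
  classical
  let a : (Fin N → ℤ) → ℝ := fun v => if hv : v ∈ t then c (t.equivFin ⟨v, hv⟩) else 0
  refine ⟨a, fun v => by simp only [a]; split_ifs <;> simp [hc], ?_⟩
  have ha : (fun i => a (enum t i)) = c := by
    funext i
    simp [a, enum, (t.equivFin.symm i).2]
  rw [← ha, ← sum_enum]
  refine Finset.sum_subset h fun v _ hv => ?_
  simp [a, hv]

lemma coneOf_eq (g : Finset (Fin N → ℤ)) :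
    coneOf g = ⋃ t ∈ {t : Finset (Fin N → ℤ) | t ⊆ g ∧ LinearIndependent ℤ (fun v : t => (v : Fin N → ℤ))},
      colMap (ofCols (enum t)) '' {c | ∀ i, 0 ≤ c i} := by
  ext x
  simp only [Set.mem_iUnion, Set.mem_image, Set.mem_ofPred_eq, exists_prop]
  constructor
  · rintro ⟨c, hc, rfl⟩
    obtain ⟨t, ht, hli, c', hc', he⟩ := exists_indep_subset g c hc
    exact ⟨t, ⟨ht, hli⟩, _, fun i => hc' _, (sum_enum t c').symm.trans he.symm⟩
  · rintro ⟨t, ⟨ht, -⟩, c, hc, rfl⟩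
    exact colMap_enum_mem ht hc

lemma finite_subsets (g : Finset (Fin N → ℤ)) :
    {t : Finset (Fin N → ℤ) | t ⊆ g ∧ LinearIndependent ℤ (fun v : t => (v : Fin N → ℤ))}.Finite :=
  g.powerset.finite_toSet.subset fun _ ht => Finset.mem_powerset.2 ht.1

lemma isClosed_coneOf (g : Finset (Fin N → ℤ)) : IsClosed (coneOf g) := by
  rw [coneOf_eq]
  refine (finite_subsets g).isClosed_biUnion fun t ht => ?_
  refine isClosed_image_colMap _ (ofCols_injective _ (enum_indep ht.2)) ?_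
  rw [Set.ofPred_forall]
  exact isClosed_iInter fun i => isClosed_le continuous_const (continuous_apply i)

lemma toVec_eq (n : ICone) (φ : RFan.Cone K n) (v : Fin n.dim → ℝ) :
    RFan.toVec K n φ v = colMap φ.1 v := rfl

lemma toVec_ne {n : ICone} (φ : RFan.Cone K n) (v : Orth n) : colMap φ.1 v.1 ≠ 0 :=
  fun h => v.2.2 (colMap_injective _ φ.2.1 (h.trans (map_zero _).symm))

lemma colMap_mem {gen : ι → Σ m : ℕ, Fin m → Finset (Fin N → ℤ)}
    (hK : ∀ a, K a = ⋃ l, coneOf ((gen a).2 l)) {n : ICone} (φ : RFan.Cone K n) (v : Orth n) :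
    colMap φ.1 v.1 ∈ Set.iUnion K := by
  obtain ⟨a, ha⟩ := φ.2.2
  have hclosed : IsClosed (K a) := by
    rw [hK a]; exact isClosed_iUnion_of_finite fun l => isClosed_coneOf _
  refine Set.mem_iUnion.2 ⟨a, hclosed.mem_of_tendsto (((LinearMap.continuous_of_finiteDimensional
    (colMap φ.1)).tendsto _).comp (tendsto_ceil_div v.1 v.2.1)) (Eventually.of_forall fun m => ?_)⟩
  simp only [Function.comp_apply]
  rw [map_smul, colMap_castVec]
  have hmem := ha (fun i => ((⌈v.1 i * m⌉₊ : ℕ) : ℤ)) (fun i => Int.natCast_nonneg _)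
  rw [hK a, Set.mem_iUnion] at hmem ⊢
  obtain ⟨l, hl⟩ := hmem
  exact ⟨l, smul_mem_coneOf hl (inv_nonneg.2 (Nat.cast_nonneg _))⟩

/-- The ray of a point of the disjoint union. -/
def ptRay (p : Pt (RFan K)) : Rays N := Quot.mk _ ⟨colMap p.1.2.1 p.2.1, toVec_ne p.1.2 p.2⟩

lemma ptRay_rel {p q : Pt (RFan K)} (h : Rel (RFan K) p q) : ptRay p = ptRay q := by
  obtain ⟨φ, ξ, v, w, c, hc, h⟩ := h
  refine Quot.sound ⟨c⁻¹, inv_pos.2 hc, ?_⟩ |>.symm
  change colMap (ξ.1.comp φ.toLin) v.1 = c⁻¹ • colMap ξ.1 w.1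
  rw [h, colMap_comp, map_smul, smul_smul, inv_mul_cancel₀ hc.ne', one_smul]
  rfl

/-- The canonical map to the space of rays. -/
def toRays : P (RFan K) → Rays N := Quot.lift ptRay fun _ _ => ptRay_rel

lemma rays_prop {v w : {v : Fin N → ℝ // v ≠ 0}}
    (h : (Quot.mk _ v : Rays N) = Quot.mk _ w) : ∃ c : ℝ, 0 < c ∧ w.1 = c • v.1 := by
  have := Quot.eqvGen_exact h
  clear h
  induction this with
  | rel _ _ h => exact h
  | refl a => exact ⟨1, one_pos, (one_smul _ _).symm⟩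
  | symm a b _ ih =>
    obtain ⟨c, hc, e⟩ := ih
    exact ⟨c⁻¹, inv_pos.2 hc, by rw [e, smul_smul, inv_mul_cancel₀ hc.ne', one_smul]⟩
  | trans a b d hab hbd ih₁ ih₂ =>
    obtain ⟨c, hc, e⟩ := ih₁
    obtain ⟨c', hc', e'⟩ := ih₂
    exact ⟨c' * c, mul_pos hc' hc, by rw [e', e, smul_smul]⟩

lemma toRays_injective : Function.Injective (toRays (K := K)) := by
  intro x y h
  obtain ⟨n, φ, v, rfl⟩ := exists_mk x
  obtain ⟨n', φ', w, rfl⟩ := exists_mk y
  obtain ⟨c, hc, e⟩ := rays_prop h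
  have hcw : colMap φ.1 (scale c hc v).1 = colMap φ'.1 w.1 := by
    change colMap φ.1 (c • v.1) = _
    rw [map_smul]; exact e.symm
  obtain ⟨m, α, β, y, hcomp, hya, hyb⟩ :=
    exists_refinement_icone φ.1 φ'.1 φ.2.1 φ'.2.1 _ _ hcw
  have he : (RFan K).map α.op φ = (RFan K).map β.op φ' := Subtype.ext hcomp
  rw [mk_smul φ v (scale c hc v) c rfl, ← mk_glue α φ y _ 1 one_pos (by rw [one_smul, hya]), he]
  exact mk_glue β φ' y w 1 one_pos (by rw [one_smul, hyb])

instance (N : ℕ) : T2Space (Rays N) := by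
  let f : {v : Fin N → ℝ // v ≠ 0} → (Fin N → ℝ) := fun v => ‖v.1‖⁻¹ • v.1
  have hf : ∀ v w : {v : Fin N → ℝ // v ≠ 0}, (∃ c : ℝ, 0 < c ∧ w.1 = c • v.1) → f v = f w := by
    rintro v w ⟨c, hc, e⟩
    simp only [f]
    rw [e, norm_smul, Real.norm_of_nonneg hc.le, mul_inv, smul_smul, mul_comm c⁻¹, mul_assoc,
      inv_mul_cancel₀ hc.ne', mul_one]
  have hv : Continuous (fun v : {v : Fin N → ℝ // v ≠ 0} => v.1) := continuous_subtype_val
  refine T2Space.of_injective_continuous (f := (Quot.lift f hf : Rays N → (Fin N → ℝ))) ?_ ?_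
  · intro a b h
    induction a using Quot.ind with | mk v => ?_
    induction b using Quot.ind with | mk w => ?_
    have hv0 : ‖v.1‖ ≠ 0 := norm_ne_zero_iff.2 v.2
    have hw0 : ‖w.1‖ ≠ 0 := norm_ne_zero_iff.2 w.2
    refine Quot.sound ⟨‖w.1‖ * ‖v.1‖⁻¹, mul_pos (norm_pos_iff.2 w.2)
      (inv_pos.2 (norm_pos_iff.2 v.2)), ?_⟩
    change f v = f w at h
    simp only [f] at h
    rw [← smul_smul, h, smul_smul, mul_inv_cancel₀ hw0, one_smul]
  · exact continuous_quot_lift hf ((hv.norm.inv₀ fun v => norm_ne_zero_iff.2 v.2).smul hv)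

lemma continuous_toRays : Continuous (toRays (K := K)) := by
  refine continuous_quot_lift _ (continuous_quot_mk.comp ?_)
  refine Continuous.subtype_mk (f := fun p : Pt (RFan K) => colMap p.1.2.1 p.2.1) ?_
    fun p => toVec_ne p.1.2 p.2
  refine (continuous_sigma_iff (σ := fun e : (Σ n : ICone, (RFan K).obj (op n)) => Orth e.1)).2 ?_
  rintro ⟨n, φ⟩
  exact (LinearMap.continuous_of_finiteDimensional (colMap φ.1)).comp continuous_subtype_val

lemma isCompact_cell {n : ICone} (φ : (RFan K).obj (op n)) : IsCompact (P.cell φ) := by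
  have hne : ∀ p ∈ stdSimplex ℝ (Fin n.dim), p ≠ 0 := fun p hp h => by simpa [h] using hp.2
  let j : stdSimplex ℝ (Fin n.dim) → Orth n := fun p => ⟨p.1, p.2.1, hne p.1 p.2⟩
  have hj : Continuous j := continuous_subtype_val.subtype_mk _
  have : CompactSpace (stdSimplex ℝ (Fin n.dim)) :=
    isCompact_iff_compactSpace.1 (isCompact_stdSimplex ℝ _)
  have he : P.cell φ = Set.range (P.mk φ ∘ j) := by
    refine Set.Subset.antisymm ?_ ?_
    · rintro _ ⟨v, rfl⟩
      refine ⟨⟨(∑ i, v.1 i)⁻¹ • v.1, fun i => mul_nonneg (inv_nonneg.2 (orth_sum_pos v).le) (v.2.1 i),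
        ?_⟩, ?_⟩
      · simp only [Pi.smul_apply, smul_eq_mul, ← Finset.mul_sum]
        exact inv_mul_cancel₀ (orth_sum_pos v).ne'
      · exact (mk_smul φ v _ _ rfl).symm
    · rintro _ ⟨p, rfl⟩
      exact ⟨_, rfl⟩
  rw [he]
  exact isCompact_range ((continuous_mk φ).comp hj)

/-- The cone of an independent subset of generators. -/
noncomputable def genCone {gen : ι → Σ m : ℕ, Fin m → Finset (Fin N → ℤ)}
    (hK : ∀ a, K a = ⋃ l, coneOf ((gen a).2 l)) (a : ι) (l : Fin (gen a).1)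
    (t : Finset (Fin N → ℤ)) (ht : t ⊆ (gen a).2 l)
    (hli : LinearIndependent ℤ (fun v : t => (v : Fin N → ℤ))) (hpos : 0 < t.card) :
    (RFan K).obj (op ⟨⟨t.card, hpos⟩⟩) :=
  ⟨ofCols (enum t), ofCols_injective _ (enum_indep hli), a, fun (v : Fin t.card → ℤ) hv => by
    rw [hK a]
    refine Set.mem_iUnion.2 ⟨l, ?_⟩
    have := colMap_enum_mem ht (c := castVec v) (fun i => by simpa [castVec] using hv i)
    rwa [colMap_castVec] at this⟩

theorem exists_genCone {gen : ι → Σ m : ℕ, Fin m → Finset (Fin N → ℤ)}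
    (hK : ∀ a, K a = ⋃ l, coneOf ((gen a).2 l)) {w : Fin N → ℝ} (hw : w ≠ 0)
    (hwK : w ∈ Set.iUnion K) :
    ∃ (a : ι) (l : Fin (gen a).1) (t : Finset (Fin N → ℤ)) (ht : t ⊆ (gen a).2 l)
      (hli : LinearIndependent ℤ (fun v : t => (v : Fin N → ℤ))) (hpos : 0 < t.card)
      (v : Orth ⟨⟨t.card, hpos⟩⟩), colMap (genCone hK a l t ht hli hpos).1 v.1 = w := by
  obtain ⟨a, ha⟩ := Set.mem_iUnion.1 hwK
  rw [hK a, Set.mem_iUnion] at ha
  obtain ⟨l, hl⟩ := ha
  rw [coneOf_eq] at hl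
  simp only [Set.mem_iUnion, Set.mem_image, Set.mem_ofPred_eq, exists_prop] at hl
  obtain ⟨t, ⟨ht, hli⟩, c, hc, rfl⟩ := hl
  have hc0 : c ≠ 0 := fun h => hw (by rw [h, map_zero])
  have hpos : 0 < t.card := by
    rcases Nat.eq_zero_or_pos t.card with h | h
    · exact absurd (funext fun i : Fin t.card => absurd i.isLt (by omega)) hc0
    · exact h
  exact ⟨a, l, t, ht, hli, hpos, ⟨c, hc, hc0⟩, rfl⟩

theorem toRays_range {gen : ι → Σ m : ℕ, Fin m → Finset (Fin N → ℤ)}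
    (hK : ∀ a, K a = ⋃ l, coneOf ((gen a).2 l)) :
    Set.range (toRays (K := K)) =
      {r | ∃ w : {w : Fin N → ℝ // w ≠ 0}, r = Quot.mk _ w ∧ w.1 ∈ Set.iUnion K} := by
  refine Set.Subset.antisymm ?_ ?_
  · rintro _ ⟨x, rfl⟩
    obtain ⟨n, φ, v, rfl⟩ := exists_mk x
    exact ⟨⟨colMap φ.1 v.1, toVec_ne φ v⟩, rfl, colMap_mem hK φ v⟩
  · rintro _ ⟨⟨w, hw⟩, rfl, hwK⟩
    obtain ⟨a, l, t, ht, hli, hpos, v, hv⟩ := exists_genCone hK hw hwK
    exact ⟨P.mk (genCone hK a l t ht hli hpos) v, congrArg (Quot.mk _) (Subtype.ext hv)⟩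

theorem compactSpace_P [Finite ι] {gen : ι → Σ m : ℕ, Fin m → Finset (Fin N → ℤ)}
    (hK : ∀ a, K a = ⋃ l, coneOf ((gen a).2 l)) : CompactSpace (P (RFan K)) := by
  let T := Σ (a : ι) (l : Fin (gen a).1),
    {t // t ∈ ((gen a).2 l).powerset ∧
      LinearIndependent ℤ (fun v : t => (v : Fin N → ℤ)) ∧ 0 < t.card}
  have : ∀ (a : ι) (l : Fin (gen a).1), Finite {t // t ∈ ((gen a).2 l).powerset ∧
      LinearIndependent ℤ (fun v : t => (v : Fin N → ℤ)) ∧ 0 < t.card} := fun a l =>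
    Set.Finite.to_subtype (((gen a).2 l).powerset.finite_toSet.subset fun t ht => ht.1)
  refine ⟨?_⟩
  have hcov : (Set.univ : Set (P (RFan K))) = ⋃ i : T,
      P.cell (genCone hK i.1 i.2.1 i.2.2.1 (Finset.mem_powerset.1 i.2.2.2.1) i.2.2.2.2.1
        i.2.2.2.2.2) := by
    refine Set.Subset.antisymm (fun x _ => ?_) (Set.subset_univ _)
    obtain ⟨n, φ, v, rfl⟩ := exists_mk x
    obtain ⟨a, l, t, ht, hli, hpos, u, hu⟩ :=
      exists_genCone hK (toVec_ne φ v) (colMap_mem hK φ v)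
    refine Set.mem_iUnion.2 ⟨⟨a, l, t, Finset.mem_powerset.2 ht, hli, hpos⟩, u, ?_⟩
    exact toRays_injective (congrArg (Quot.mk _) (Subtype.ext hu))
  rw [hcov]
  exact isCompact_iUnion fun i => isCompact_cell _

end Groth.Agent.Fan2
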